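import Cfsg.Agent.Lib.PGroup.MaximalClass

/-!
# A self-centralizing subgroup of order `p²` forces maximal class
-/

set_option autoImplicit false
set_option linter.style.haveILetI false

namespace Cfsg.Agent.Pearl

open Subgroup
open scoped commutatorElement

universe u

theorem comm_of_card_sq {G : Type u} [Group G] {p : ℕ} [Fact p.Prime] (E : Subgroup G)
    (hE : Nat.card E = p ^ 2) : ∀ a ∈ E, ∀ b ∈ E, a * b = b * a := fun a ha b hb =>
  congrArg Subtype.val ((IsPGroup.commGroupOfCardEqPrimeSq hE).mul_comm ⟨a, ha⟩ ⟨b, hb⟩)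

theorem card_map_mk' {G : Type u} [Group G] [Finite G] (N : Subgroup G) [N.Normal] {E : Subgroup G} (h : N ≤ E) :
    Nat.card (E.map (QuotientGroup.mk' N)) * Nat.card N = Nat.card E := by
  have h1 := Subgroup.relIndex_ker (K := E) (QuotientGroup.mk' N)
  rw [QuotientGroup.ker_mk'] at h1
  rw [← h1, ← Subgroup.relIndex_bot_left, ← Subgroup.relIndex_bot_left, mul_comm,
    Subgroup.relIndex_mul_relIndex ⊥ N E bot_le h]

/-- The step: `E` of order `p²` equal to its centralizer. -/
theorem lcs_ne_bot_of_selfCentralizing {p : ℕ} [Fact p.Prime] :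
    ∀ (n : ℕ) (G : Type u) [Group G] [Finite G], Nat.card G = p ^ n → ∀ E : Subgroup G,
      Nat.card E = p ^ 2 → centralizer (E : Set G) ≤ E → 3 ≤ n →
      (⊤ : Subgroup G).lowerCentralSeries (n - 2) ≠ ⊥ := by
  intro n
  induction n using Nat.strong_induction_on with
  | _ n ih =>
  intro G _ _ hG E hE hC hn
  have hp := (Fact.out : p.Prime)
  have hP : IsPGroup p G := IsPGroup.of_card hG
  haveI : Nontrivial G := Finite.one_lt_card_iff_nontrivial.mp (by rw [hG]; exact Nat.one_lt_pow (by omega) hp.one_lt)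
  have hEcomm := comm_of_card_sq E hE
  have hEtop : E ≠ ⊤ := fun h => by
    rw [h, card_top, hG] at hE
    have := Nat.pow_right_injective hp.two_le hE
    omega
  -- the centre has order `p`
  have hZE : center G ≤ E := le_trans (center_le_centralizer _) hC
  have hZne : center G ≠ E := fun h => hEtop (top_le_iff.mp fun g _ => hC (mem_centralizer_iff.mpr fun e he =>
    (mem_center_iff.mp (h ▸ he : e ∈ center G) g).symm))
  have hZ : Nat.card (center G) = p := by
    obtain ⟨k, hk⟩ := PGroup.card_eq_pow hP (center G)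
    have h1 : Nat.card (center G) < Nat.card E := by
      refine lt_of_le_of_ne (Subgroup.card_le_of_le hZE) fun h => hZne ?_
      exact eq_of_le_of_card_ge hZE h.ge
    have h0 : k ≠ 0 := fun h => by
      haveI := hP.center_nontrivial
      have := Finite.one_lt_card (α := center G)
      rw [hk, h, pow_zero] at this
      omega
    rw [hk, hE] at h1
    have := (Nat.pow_lt_pow_iff_right hp.one_lt).mp h1
    rw [hk, show k = 1 by omega, pow_one]
  set N := normalizer (E : Set G) with hN
  have hEN : E < N := by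
    haveI := hP.isNilpotent
    exact Group.normalizerCondition_of_isNilpotent E (lt_top_iff_ne_top.mpr hEtop)
  let π := QuotientGroup.mk' (center G)
  -- commutators of `N` with `E` are central
  have hNE : ∀ g ∈ N, ∀ e ∈ E, ⁅g, e⁆ ∈ center G := by
    intro g hg e he
    -- the quotient `E / Z(G)` has order `p` and is fixed by the `p`-element
    have hb : Nat.card (E.map π) = p := by
      have h := card_map_mk' (center G) hZE
      rw [hZ, hE, pow_two] at h
      exact Nat.eq_of_mul_eq_mul_right hp.pos h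
    let cj : E.map π → E.map π := fun w => ⟨π g * w * (π g)⁻¹, by
      obtain ⟨e', he', hw⟩ := w.2
      exact ⟨g * e' * g⁻¹, (mem_normalizer_iff.mp hg e').mp he', by simp [← hw]⟩⟩
    by_contra hcon
    have hne : π e ≠ 1 := fun h => hcon (by
      have he' : e ∈ center G := (QuotientGroup.eq_one_iff _).mp h
      rw [commutatorElement_def, mem_center_iff.mp he' g, mul_inv_cancel_right, mul_inv_cancel]
      exact one_mem _)
    have hgen : ∀ w ∈ E.map π, ∃ i : ℤ, π e ^ i = w := fun w hw => by
      have heq : zpowers (π e) = E.map π := by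
        refine eq_of_le_of_card_ge (zpowers_le.mpr (mem_map_of_mem π he)) ?_
        rw [hb, Nat.card_zpowers]
        rcases (Nat.dvd_prime hp).mp (hb ▸ orderOf_submonoid (⟨π e, mem_map_of_mem π he⟩ : E.map π) ▸
          orderOf_dvd_natCard (⟨π e, mem_map_of_mem π he⟩ : E.map π)) with h | h
        · exact absurd (orderOf_eq_one_iff.mp h) hne
        · exact h.ge
      rw [← heq] at hw
      exact hw
    obtain ⟨i, hi⟩ := hgen _ (cj ⟨π e, mem_map_of_mem π he⟩).2
    -- the multiplier `i` has `p`-power order, so it is `1`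
    have hord : orderOf (π e) = p := by
      have h1 : orderOf (π e) ∣ p := by
        have h2 := orderOf_dvd_natCard (⟨π e, mem_map_of_mem π he⟩ : E.map π)
        rwa [orderOf_mk, hb] at h2
      exact ((Nat.dvd_prime hp).mp h1).resolve_left fun h => hne (orderOf_eq_one_iff.mp h)
    obtain ⟨k, hk⟩ := hP g
    have hiter : ∀ m : ℕ, π g ^ m * π e * (π g ^ m)⁻¹ = π e ^ (i ^ m) := fun m => by
      induction m with
      | zero => simp
      | succ m ihm =>
        rw [pow_succ' (π g), show π g * π g ^ m * π e * (π g * π g ^ m)⁻¹ =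
          π g * (π g ^ m * π e * (π g ^ m)⁻¹) * (π g)⁻¹ by group, ihm, ← conj_zpow,
          show π g * π e * (π g)⁻¹ = π e ^ i from hi.symm, ← zpow_mul, pow_succ']
    have h1 := hiter (p ^ k)
    rw [← map_pow, hk, map_one, one_mul, inv_one, mul_one] at h1
    have h2 : ((i : ZMod p)) ^ (p ^ k) = 1 := by
      have h3 : π e ^ (i ^ (p ^ k) - 1) = 1 := by rw [zpow_sub, ← h1, zpow_one, mul_inv_cancel]
      rw [← orderOf_dvd_iff_zpow_eq_one, hord] at h3
      have h4 := (ZMod.intCast_zmod_eq_zero_iff_dvd _ p).mpr h3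
      push_cast at h4
      exact sub_eq_zero.mp h4
    rw [ZMod.pow_card_pow] at h2
    refine hcon ((QuotientGroup.eq_one_iff _).mp ?_)
    show π ⁅g, e⁆ = 1
    rw [map_commutatorElement, commutatorElement_def, show π g * π e * (π g)⁻¹ = π e ^ i from hi.symm,
      ← zpow_sub_one, ← orderOf_dvd_iff_zpow_eq_one, hord, ← ZMod.intCast_zmod_eq_zero_iff_dvd]
    push_cast
    rw [h2, sub_self]
  -- `N` has order `p³`
  obtain ⟨e, heE, heZ⟩ := SetLike.exists_of_lt (lt_of_le_of_ne hZE hZne)
  let f : N →* center G :=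
    MonoidHom.mk' (fun g => ⟨⁅(g : G), e⁆, hNE g g.2 e heE⟩) fun a b => Subtype.ext (by
      show ⁅(a : G) * b, e⁆ = ⁅(a : G), e⁆ * ⁅(b : G), e⁆
      have h := mem_center_iff.mp (hNE b b.2 e heE) a
      calc ⁅(a : G) * b, e⁆ = a * ⁅(b : G), e⁆ * (a : G)⁻¹ * ⁅(a : G), e⁆ := by
            simp only [commutatorElement_def]; group
        _ = ⁅(b : G), e⁆ * ⁅(a : G), e⁆ := by rw [h, mul_inv_cancel_right]
        _ = ⁅(a : G), e⁆ * ⁅(b : G), e⁆ := (mem_center_iff.mp (hNE b b.2 e heE) _).symm)
  have hfk : f.ker.map N.subtype ≤ E := by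
    rintro _ ⟨g, hg, rfl⟩
    refine hC (mem_centralizer_iff.mpr fun e' he' => ?_)
    have h0 : (g : G) * e = e * (g : G) :=
      commutatorElement_eq_one_iff_mul_comm.mp (congrArg Subtype.val (MonoidHom.mem_ker.mp hg))
    have hgen : center G ⊔ zpowers e = E := by
      refine eq_of_le_of_card_ge (sup_le hZE (zpowers_le.mpr heE)) ?_
      obtain ⟨j, hj⟩ := PGroup.card_eq_pow hP (center G ⊔ zpowers e)
      have hlt : center G < center G ⊔ zpowers e :=
        left_lt_sup.mpr fun h => heZ (h (mem_zpowers e))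
      have h5 : Nat.card (center G) < Nat.card ↥(center G ⊔ zpowers e) := by
        refine lt_of_le_of_ne (Subgroup.card_le_of_le hlt.le) fun h => hlt.ne ?_
        exact eq_of_le_of_card_ge hlt.le h.ge
      rw [hZ, hj] at h5
      rw [hE, hj]
      have h6 : p ^ 1 < p ^ j := by rwa [pow_one]
      exact Nat.pow_le_pow_right hp.pos ((Nat.pow_lt_pow_iff_right hp.one_lt).mp h6)
    have hle : center G ⊔ zpowers e ≤ centralizer {(g : G)} :=
      sup_le (center_le_centralizer _) (zpowers_le.mpr (mem_centralizer_singleton_iff.mpr h0.symm))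
    exact mem_centralizer_singleton_iff.mp (hle (hgen.ge he'))
  have hNcard : Nat.card N = p ^ 3 := by
    have h1 := f.ker.card_mul_index
    rw [index_ker] at h1
    have h2 : Nat.card f.ker ≤ p ^ 2 := by
      rw [← hE, ← card_map_of_injective (K := f.ker) N.subtype_injective]
      exact Subgroup.card_le_of_le hfk
    have h3 : Nat.card f.range ≤ p := hZ ▸ Subgroup.card_le_card_group _
    have h4 : Nat.card N ≤ p ^ 3 := by
      rw [← h1, pow_succ]; exact Nat.mul_le_mul h2 h3
    obtain ⟨j, hj⟩ := PGroup.card_eq_pow hP N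
    have h5 : Nat.card E < Nat.card N := by
      refine lt_of_le_of_ne (Subgroup.card_le_of_le hEN.le) fun h => hEN.ne ?_
      exact eq_of_le_of_card_ge hEN.le h.ge
    rw [hE, hj] at h5
    rw [hj] at h4 ⊢
    have := (Nat.pow_lt_pow_iff_right hp.one_lt).mp h5
    have := (Nat.pow_le_pow_iff_right hp.one_lt).mp h4
    rw [show j = 3 by omega]
  have hγ : ∀ m, (⊤ : Subgroup (G ⧸ center G)).lowerCentralSeries m =
      ((⊤ : Subgroup G).lowerCentralSeries m).map π := fun m => by
    rw [Subgroup.map_lowerCentralSeries, Subgroup.map_top_of_surjective _ (QuotientGroup.mk'_surjective _)]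
  by_cases hn3 : n = 3
  · subst hn3
    intro h
    rw [Subgroup.top_lowerCentralSeries_one, commutator_eq_bot_iff] at h
    exact hEtop (top_le_iff.mp fun g _ => hC (mem_centralizer_iff.mpr fun e _ => h.is_comm.comm e g))
  -- descend to the quotient by the centre
  have hGZ : Nat.card (G ⧸ center G) = p ^ (n - 1) := by
    have h := (center G).card_eq_card_quotient_mul_card_subgroup
    rw [hG, hZ, show n = n - 1 + 1 by omega, pow_succ] at h
    exact (Nat.eq_of_mul_eq_mul_right hp.pos h).symm
  have hNZ : Nat.card (N.map π) = p ^ 2 := by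
    have h := card_map_mk' (center G) (hZE.trans hEN.le)
    rw [hZ, hNcard, pow_succ] at h
    exact Nat.eq_of_mul_eq_mul_right hp.pos h
  have hCN : centralizer (N.map π : Set (G ⧸ center G)) ≤ N.map π := by
    intro w hw
    obtain ⟨g, rfl⟩ := QuotientGroup.mk'_surjective _ w
    refine mem_map_of_mem π (mem_normalizer_iff.mpr fun e' => ?_)
    have key : ∀ g : G, (∀ u ∈ N, π g * π u = π u * π g) → ∀ e ∈ E, g * e * g⁻¹ ∈ E := by
      intro g hg e he
      have h1 : ⁅g, e⁆ ∈ center G := (QuotientGroup.eq_one_iff _).mp (by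
        show π ⁅g, e⁆ = 1
        rw [map_commutatorElement, commutatorElement_eq_one_iff_mul_comm]
        exact hg e (hEN.le he))
      have h2 := mul_mem (hZE h1) he
      rwa [commutatorElement_def, show g * e * g⁻¹ * e⁻¹ * e = g * e * g⁻¹ by group] at h2
    have hg : ∀ u ∈ N, π g * π u = π u * π g := fun u hu =>
      (mem_centralizer_iff.mp hw _ (mem_map_of_mem π hu)).symm
    refine ⟨key g hg e', fun h => ?_⟩
    have h2 := key g⁻¹ (fun u hu => by rw [map_inv]; exact (Commute.inv_left (hg u hu) : _)) _ h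
    simpa [mul_assoc] using h2
  have hrec := ih (n - 1) (by omega) (G ⧸ center G) hGZ (N.map π) hNZ hCN (by omega)
  intro hbot
  refine hrec ?_
  rw [hγ, Subgroup.map_eq_bot_iff, QuotientGroup.ker_mk', ← Subgroup.commutator_top_right_eq_bot_iff_le_center]
  rw [show n - 2 = n - 1 - 2 + 1 by omega, Subgroup.lowerCentralSeries_succ] at hbot
  exact hbot

theorem card_center_extraspecial {G : Type u} [Group G] [Finite G] {p : ℕ} [Fact p.Prime] {E : Subgroup G}
    (hP : IsPGroup p G) (hE : Nat.card E = p ^ 3) (hna : ¬ IsMulCommutative E) : Nat.card (center E) = p := by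
  have hp := (Fact.out : p.Prime)
  have hEp : IsPGroup p E := hP.to_subgroup E
  obtain ⟨k, hk⟩ := PGroup.card_eq_pow hEp (center E)
  have h0 : k ≠ 0 := fun h => by
    haveI : Nontrivial E := Finite.one_lt_card_iff_nontrivial.mp (by rw [hE]; exact Nat.one_lt_pow (by omega) hp.one_lt)
    haveI := hEp.center_nontrivial
    have := Finite.one_lt_card (α := center E)
    rw [hk, h, pow_zero] at this
    omega
  have h2 : k < 2 := by
    by_contra h
    refine hna ?_
    have hidx : (center E).index ≤ p := by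
      have h3 := (center E).card_mul_index
      rw [hk, hE] at h3
      have h4 : p ^ 2 * (center E).index ≤ p ^ 2 * p := by
        rw [← pow_succ, ← h3]
        exact Nat.mul_le_mul_right _ (Nat.pow_le_pow_right hp.pos (by omega))
      exact Nat.le_of_mul_le_mul_left h4 (pow_pos hp.pos 2)
    obtain ⟨r, hr⟩ := PGroup.index_eq_pow hEp (center E)
    have hr1 : r ≤ 1 := (Nat.pow_le_pow_iff_right hp.one_lt).mp (by rwa [pow_one, ← hr])
    haveI : IsCyclic (E ⧸ center E) := by
      rcases Nat.eq_zero_or_pos r with rfl | hr0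
      · haveI : Subsingleton (E ⧸ center E) :=
          QuotientGroup.subsingleton_iff.mpr (Subgroup.index_eq_one.mp (by rw [hr, pow_zero]))
        infer_instance
      · obtain rfl : r = 1 := by omega
        exact isCyclic_of_prime_card (p := p) (by rw [← Subgroup.index_eq_card, hr, pow_one])
    exact MonoidHom.isMulCommutative_of_isCyclic_of_ker_le_center
      (QuotientGroup.mk' (center E)) (by rw [QuotientGroup.ker_mk'])
  rw [hk, show k = 1 by omega, pow_one]

theorem center_eq_map {G : Type u} [Group G] [Finite G] {p : ℕ} [Fact p.Prime] {E : Subgroup G}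
    (hP : IsPGroup p G) (hE : Nat.card E = p ^ 3) (hna : ¬ IsMulCommutative E) (hC : centralizer (E : Set G) ≤ E) :
    (center E).map E.subtype = center G := by
  have hp := (Fact.out : p.Prime)
  haveI : Nontrivial G := by
    by_contra h
    rw [not_nontrivial_iff_subsingleton] at h
    exact hna ⟨⟨fun a b => Subsingleton.elim _ _⟩⟩
  have hZE : center G ≤ E := le_trans (center_le_centralizer _) hC
  have hZEcard := card_center_extraspecial hP hE hna
  have hle : center G ≤ (center E).map E.subtype := fun z hz =>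
    ⟨⟨z, hZE hz⟩, mem_center_iff.mpr fun e => Subtype.ext (mem_center_iff.mp hz e), rfl⟩
  refine (eq_of_le_of_card_ge hle ?_).symm
  rw [card_map_of_injective E.subtype_injective, hZEcard]
  haveI := hP.center_nontrivial
  obtain ⟨k, hk⟩ := PGroup.card_eq_pow hP (center G)
  have := Finite.one_lt_card (α := center G)
  rw [hk] at this ⊢
  exact Nat.le_self_pow (fun h => by rw [h, pow_zero] at this; omega) p

/-- The extraspecial case: `E` nonabelian of order `p³` containing its centralizer. -/
theorem selfCentralizing_quotient {G : Type u} [Group G] [Finite G] {p : ℕ} [Fact p.Prime] {E : Subgroup G}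
    (hP : IsPGroup p G) (hE : Nat.card E = p ^ 3) (hna : ¬ IsMulCommutative E) (hC : centralizer (E : Set G) ≤ E) :
    Nat.card (center G) = p ∧ Nat.card (E.map (QuotientGroup.mk' (center G))) = p ^ 2 ∧
      centralizer (E.map (QuotientGroup.mk' (center G)) : Set (G ⧸ center G)) ≤ E.map (QuotientGroup.mk' (center G)) := by
  have hp := (Fact.out : p.Prime)
  haveI : Nontrivial G := by
    by_contra h
    rw [not_nontrivial_iff_subsingleton] at h
    exact hna ⟨⟨fun a b => Subsingleton.elim _ _⟩⟩
  have hZE : center G ≤ E := le_trans (center_le_centralizer _) hC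
  have hmap := center_eq_map hP hE hna hC
  have hZEcard := card_center_extraspecial hP hE hna
  have hZ : Nat.card (center G) = p := by rw [← hmap, card_map_of_injective E.subtype_injective, hZEcard]
  have hEZ : Nat.card (E.map (QuotientGroup.mk' (center G))) = p ^ 2 := by
    have h := card_map_mk' (center G) hZE
    rw [hZ, hE, pow_succ] at h
    exact Nat.eq_of_mul_eq_mul_right hp.pos h
  refine ⟨hZ, hEZ, ?_⟩
  -- the automorphisms of `E` trivial modulo the centre are inner
  let D : Subgroup G :=
    { carrier := {g | ∀ e ∈ E, ⁅g, e⁆ ∈ center G}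
      mul_mem' := fun {a b} ha hb e he => by
        rw [show ⁅a * b, e⁆ = a * ⁅b, e⁆ * a⁻¹ * ⁅a, e⁆ by simp only [commutatorElement_def]; group,
          mem_center_iff.mp (hb e he) a, mul_inv_cancel_right]
        exact mul_mem (hb e he) (ha e he)
      one_mem' := fun e _ => by rw [commutatorElement_one_left]; exact one_mem _
      inv_mem' := fun {a} ha e he => by
        have h := ha e he
        rw [show ⁅a⁻¹, e⁆ = a⁻¹ * ⁅a, e⁆⁻¹ * a by simp only [commutatorElement_def]; group,
          mem_center_iff.mp (inv_mem h) a⁻¹, inv_mul_cancel_right]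
        exact inv_mem h }
  obtain ⟨x, hxE, hxZ⟩ : ∃ x ∈ E, x ∉ center G := by
    refine SetLike.exists_of_lt (lt_of_le_of_ne hZE fun h => ?_)
    rw [← h, hZ] at hE
    exact absurd hE (by simpa using (Nat.pow_lt_pow_iff_right hp.one_lt).mpr (show 1 < 3 by omega) |>.ne)
  obtain ⟨y, hyE, hxy⟩ : ∃ y ∈ E, x * y ≠ y * x := by
    by_contra h
    push Not at h
    refine hxZ (hmap.le ⟨⟨x, hxE⟩, mem_center_iff.mpr fun e => Subtype.ext (h e e.2).symm, rfl⟩)
  have hgen : center G ⊔ zpowers x ⊔ zpowers y = E := by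
    refine eq_of_le_of_card_ge (sup_le (sup_le hZE (zpowers_le.mpr hxE)) (zpowers_le.mpr hyE)) ?_
    have hlt1 : center G < center G ⊔ zpowers x := left_lt_sup.mpr fun h => hxZ (h (mem_zpowers x))
    have hlt2 : center G ⊔ zpowers x < center G ⊔ zpowers x ⊔ zpowers y := by
      refine left_lt_sup.mpr fun h => hxy ?_
      have hle : center G ⊔ zpowers x ≤ centralizer {x} :=
        sup_le (center_le_centralizer _) (zpowers_le.mpr (mem_centralizer_singleton_iff.mpr rfl))
      exact (mem_centralizer_singleton_iff.mp (hle (h (mem_zpowers y)))).symm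
    have h1 := PGroup.mul_card_le_card hP hlt1
    have h2 := PGroup.mul_card_le_card hP hlt2
    rw [hE]
    calc p ^ 3 = p * (p * Nat.card (center G)) := by rw [hZ]; ring
      _ ≤ p * Nat.card ↥(center G ⊔ zpowers x) := Nat.mul_le_mul_left _ h1
      _ ≤ _ := h2
  let f : D →* center G × center G :=
    MonoidHom.mk' (fun g => (⟨⁅(g : G), x⁆, g.2 x hxE⟩, ⟨⁅(g : G), y⁆, g.2 y hyE⟩)) fun a b => by
      have key : ∀ e ∈ E, ⁅(a : G) * b, e⁆ = ⁅(a : G), e⁆ * ⁅(b : G), e⁆ := fun e he => by
        rw [show ⁅(a : G) * b, e⁆ = a * ⁅(b : G), e⁆ * (a : G)⁻¹ * ⁅(a : G), e⁆ by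
            simp only [commutatorElement_def]; group,
          mem_center_iff.mp (b.2 e he) a, mul_inv_cancel_right]
        exact (mem_center_iff.mp (b.2 e he) _).symm
      exact Prod.ext (Subtype.ext (key x hxE)) (Subtype.ext (key y hyE))
  have hfk : f.ker.map D.subtype ≤ center G := by
    rintro _ ⟨g, hg, rfl⟩
    have hgx : ⁅(g : G), x⁆ = 1 := congrArg (fun z => ((Prod.fst z : center G) : G)) (MonoidHom.mem_ker.mp hg)
    have hgy : ⁅(g : G), y⁆ = 1 := congrArg (fun z => ((Prod.snd z : center G) : G)) (MonoidHom.mem_ker.mp hg)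
    have hle : center G ⊔ zpowers x ⊔ zpowers y ≤ centralizer {(g : G)} :=
      sup_le (sup_le (center_le_centralizer _)
        (zpowers_le.mpr (mem_centralizer_singleton_iff.mpr (commutatorElement_eq_one_iff_mul_comm.mp hgx).symm)))
        (zpowers_le.mpr (mem_centralizer_singleton_iff.mpr (commutatorElement_eq_one_iff_mul_comm.mp hgy).symm))
    rw [hgen] at hle
    have hgC : (g : G) ∈ centralizer (E : Set G) :=
      mem_centralizer_iff.mpr fun e he => mem_centralizer_singleton_iff.mp (hle he)
    refine hmap.le ⟨⟨(g : G), hC hgC⟩, mem_center_iff.mpr fun e => Subtype.ext ?_, rfl⟩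
    exact mem_centralizer_iff.mp hgC e e.2
  have hED : E ≤ D := fun g hg e he => (QuotientGroup.eq_one_iff _).mp (by
    show QuotientGroup.mk' (center G) ⁅g, e⁆ = 1
    rw [map_commutatorElement, commutatorElement_eq_one_iff_mul_comm]
    exact comm_of_card_sq _ hEZ _ (mem_map_of_mem _ hg) _ (mem_map_of_mem _ he))
  have hDE : E = D := by
    refine eq_of_le_of_card_ge hED ?_
    have h1 := f.ker.card_mul_index
    rw [index_ker] at h1
    rw [hE, ← h1]
    have h2 : Nat.card f.ker ≤ p := by
      rw [← hZ, ← card_map_of_injective (K := f.ker) D.subtype_injective]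
      exact Subgroup.card_le_of_le hfk
    have h3 : Nat.card f.range ≤ p * p := by
      refine (Subgroup.card_le_card_group _).trans ?_
      rw [Nat.card_prod, hZ]
    calc Nat.card f.ker * Nat.card f.range ≤ p * (p * p) := Nat.mul_le_mul h2 h3
      _ = p ^ 3 := by ring
  intro w hw
  obtain ⟨g, rfl⟩ := QuotientGroup.mk'_surjective _ w
  refine mem_map_of_mem _ (hDE.symm.le fun e he => (QuotientGroup.eq_one_iff _).mp ?_)
  show QuotientGroup.mk' (center G) ⁅g, e⁆ = 1
  rw [map_commutatorElement, commutatorElement_eq_one_iff_mul_comm]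
  exact (mem_centralizer_iff.mp hw _ (mem_map_of_mem _ he)).symm

theorem centralizer_singleton_le {G : Type u} [Group G] [Finite G] {p : ℕ} [Fact p.Prime] (hP : IsPGroup p G)
    {E : Subgroup G} (hE : Nat.card E = p ^ 2) (hC : centralizer (E : Set G) ≤ E) {x : G} (hx : x ∈ E)
    (hxZ : x ∉ center G) : centralizer {x} ≤ E := by
  haveI : Nontrivial G := ⟨⟨x, 1, fun h => hxZ (h ▸ one_mem _)⟩⟩
  have hZE : center G ≤ E := le_trans (center_le_centralizer _) hC
  have hgen : center G ⊔ zpowers x = E := by
    refine eq_of_le_of_card_ge (sup_le hZE (zpowers_le.mpr hx)) ?_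
    have h1 := PGroup.mul_card_le_card hP (H := center G) (K := center G ⊔ zpowers x)
      (left_lt_sup.mpr fun h => hxZ (h (mem_zpowers x)))
    have h2 := PGroup.mul_card_le_card hP (H := (⊥ : Subgroup G)) (K := center G) hP.bot_lt_center
    rw [card_bot, mul_one] at h2
    rw [hE, pow_two]
    exact (Nat.mul_le_mul_left _ h2).trans h1
  intro g hg
  refine hC (mem_centralizer_iff.mpr fun e he => ?_)
  have hle : center G ⊔ zpowers x ≤ centralizer {g} :=
    sup_le (center_le_centralizer _)
      (zpowers_le.mpr (mem_centralizer_singleton_iff.mpr (mem_centralizer_singleton_iff.mp hg).symm))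
  exact mem_centralizer_singleton_iff.mp (hle (hgen.ge he))

theorem exists_good_of_sq {G : Type u} [Group G] [Finite G] {p n : ℕ} [Fact p.Prime] (hn : 3 ≤ n)
    (hG : Nat.card G = p ^ n) {E : Subgroup G} (hE : Nat.card E = p ^ 2) (hexp : ∀ x ∈ E, x ^ p = 1)
    (hC : centralizer (E : Set G) ≤ E) :
    (⊤ : Subgroup G).lowerCentralSeries (n - 2) ≠ ⊥ ∧
      ∃ x : G, x ^ p = 1 ∧ Nat.card (centralizer {x}) = p ^ 2 := by
  have hP : IsPGroup p G := IsPGroup.of_card hG
  refine ⟨lcs_ne_bot_of_selfCentralizing n G hG E hE hC hn, ?_⟩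
  have hEtop : E ≠ ⊤ := fun h => by
    rw [h, card_top, hG] at hE
    have := Nat.pow_right_injective (Fact.out : p.Prime).two_le hE
    omega
  obtain ⟨x, hx, hxZ⟩ : ∃ x ∈ E, x ∉ center G := by
    by_contra h
    push Not at h
    exact hEtop (top_le_iff.mp fun g _ => hC (mem_centralizer_iff.mpr fun e he =>
      (mem_center_iff.mp (h e he) g).symm))
  refine ⟨x, hexp x hx, ?_⟩
  rw [show centralizer {x} = E from le_antisymm (centralizer_singleton_le hP hE hC hx hxZ) fun e he =>
    mem_centralizer_singleton_iff.mpr (comm_of_card_sq E hE e he x hx), hE]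

theorem exists_good_of_extraspecial {G : Type u} [Group G] [Finite G] {p n : ℕ} [Fact p.Prime] (hn : 3 ≤ n)
    (hG : Nat.card G = p ^ n) {E : Subgroup G} (hE : Nat.card E = p ^ 3) (hna : ¬ IsMulCommutative E)
    (hexp : ∀ x ∈ E, x ^ p = 1) (hC : centralizer (E : Set G) ≤ E) :
    (⊤ : Subgroup G).lowerCentralSeries (n - 2) ≠ ⊥ ∧
      ∃ x : G, x ^ p = 1 ∧ Nat.card (centralizer {x}) = p ^ 2 := by
  have hp := (Fact.out : p.Prime)
  have hP : IsPGroup p G := IsPGroup.of_card hG
  obtain ⟨hZ, hEb, hCb⟩ := selfCentralizing_quotient hP hE hna hC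
  have hZE : center G ≤ E := le_trans (center_le_centralizer _) hC
  let π := QuotientGroup.mk' (center G)
  have hGZ : Nat.card (G ⧸ center G) = p ^ (n - 1) := by
    have h := (center G).card_eq_card_quotient_mul_card_subgroup
    rw [hG, hZ, show n = n - 1 + 1 by omega, pow_succ] at h
    exact (Nat.eq_of_mul_eq_mul_right hp.pos h).symm
  refine ⟨?_, ?_⟩
  · by_cases hn3 : n = 3
    · subst hn3
      intro h
      rw [Subgroup.top_lowerCentralSeries_one, commutator_eq_bot_iff] at h
      exact hna ⟨⟨fun a b => Subtype.ext (h.is_comm.comm _ _)⟩⟩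
    · have hrec := lcs_ne_bot_of_selfCentralizing (n - 1) _ hGZ _ hEb hCb (by omega)
      intro hbot
      refine hrec ?_
      rw [← Subgroup.map_top_of_surjective _ (QuotientGroup.mk'_surjective (center G)),
        ← Subgroup.map_lowerCentralSeries, Subgroup.map_eq_bot_iff, QuotientGroup.ker_mk',
        ← Subgroup.commutator_top_right_eq_bot_iff_le_center]
      rw [show n - 2 = n - 1 - 2 + 1 by omega, Subgroup.lowerCentralSeries_succ] at hbot
      exact hbot
  -- an element of `E` outside the second centre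
  have hP' := IsPGroup.of_card hGZ
  obtain ⟨x, hxE, hxZ, hle⟩ : ∃ x ∈ E, x ∉ center G ∧ centralizer {x} ≤ E := by
    by_cases hcon : ∀ x ∈ E, π x ∈ center (G ⧸ center G)
    · -- then `E = G`
      have hEtop : E = ⊤ := top_le_iff.mp fun g _ => by
        have h1 : π g ∈ E.map π := hCb (mem_centralizer_iff.mpr fun w hw => by
          obtain ⟨e, he, rfl⟩ := hw
          exact (mem_center_iff.mp (hcon e he) _).symm)
        obtain ⟨e, he, hge⟩ := h1
        have h2 := mul_mem he (hZE (QuotientGroup.eq.mp hge))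
        rwa [mul_inv_cancel_left] at h2
      obtain ⟨x, hxE, hxZ⟩ : ∃ x ∈ E, x ∉ center G := by
        by_contra h
        push Not at h
        exact hna ⟨⟨fun a b => Subtype.ext ((mem_center_iff.mp (h b b.2) a))⟩⟩
      exact ⟨x, hxE, hxZ, hEtop ▸ le_top⟩
    · push Not at hcon
      obtain ⟨x, hxE, hx⟩ := hcon
      refine ⟨x, hxE, fun h => hx ?_, fun g hg => ?_⟩
      · rw [show π x = 1 from (QuotientGroup.eq_one_iff x).mpr h]
        exact one_mem _
      · have h1 : π g ∈ E.map π := centralizer_singleton_le hP' hEb hCb (mem_map_of_mem π hxE) hx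
          (mem_centralizer_singleton_iff.mpr (by rw [← map_mul, mem_centralizer_singleton_iff.mp hg, map_mul]))
        obtain ⟨e, he, hge⟩ := h1
        have h2 := mul_mem he (hZE (QuotientGroup.eq.mp hge))
        rwa [mul_inv_cancel_left] at h2
  refine ⟨x, hexp x hxE, ?_⟩
  obtain ⟨k, hk⟩ := PGroup.card_eq_pow hP (centralizer {x})
  have hup : Nat.card (centralizer {x}) < p ^ 3 := by
    rw [← hE]
    refine lt_of_le_of_ne (Subgroup.card_le_of_le hle) fun h => hxZ ?_
    have heq := eq_of_le_of_card_ge hle h.ge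
    refine mem_center_iff.mpr fun g => ?_
    have hEx : ∀ e ∈ E, e * x = x * e := fun e he => mem_centralizer_singleton_iff.mp (heq.ge he)
    have hxc : x ∈ centralizer (E : Set G) := mem_centralizer_iff.mpr hEx
    have hxZE : (⟨x, hxE⟩ : E) ∈ center E := mem_center_iff.mpr fun e => Subtype.ext (hEx e e.2)
    have hx' := center_eq_map hP hE hna hC ▸ mem_map_of_mem E.subtype hxZE
    exact mem_center_iff.mp hx' g
  have hlow : p ^ 2 ≤ Nat.card (centralizer {x}) := by
    have hlt : center G < centralizer {x} := SetLike.lt_iff_le_and_exists.mpr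
      ⟨center_le_centralizer _, x, mem_centralizer_singleton_iff.mpr rfl, hxZ⟩
    have h1 := PGroup.mul_card_le_card hP hlt
    rwa [hZ, ← pow_two] at h1
  rw [hk] at hup hlow ⊢
  have := (Nat.pow_lt_pow_iff_right hp.one_lt).mp hup
  have := (Nat.pow_le_pow_iff_right hp.one_lt).mp hlow
  rw [show k = 2 by omega]

end Cfsg.Agent.Pearl
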