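import Cfsg.Agent.Lib.Pearl.Generation
import Cfsg.Agent.Lib.Pearl.SelfCentralizing

/-!
# `3`-groups of maximal class with `x` of order `3`, `|C(x)| = 9`: sectional rank two

Either every subgroup is generated by two elements, or `|G| = 81` and `G ≅ C₃ ≀ C₃`.
-/

set_option autoImplicit false
set_option linter.style.haveILetI false

namespace Cfsg.Agent.Pearl.Three

open Subgroup
open scoped commutatorElement

universe u

variable {G : Type u} [Group G] [Finite G] [Fact (Nat.Prime 3)] {n : ℕ}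

local notation "γ" => Subgroup.lowerCentralSeries (⊤ : Subgroup G)

/-- The hypotheses of this file. -/
structure Setting (G : Type u) [Group G] (n : ℕ) (x : G) : Prop where
  hn : 4 ≤ n
  hG : Nat.card G = 3 ^ n
  hcl : (⊤ : Subgroup G).lowerCentralSeries (n - 2) ≠ ⊥
  hx : x ^ 3 = 1
  hC : Nat.card (centralizer ({x} : Set G)) = 3 ^ 2

variable {x : G}

omit [Finite G] [Fact (Nat.Prime 3)] in
theorem mem_of_le {i j : ℕ} (h : j ≤ i) {a : G} (ha : a ∈ γ i) : a ∈ γ j :=
  Subgroup.lowerCentralSeries_antitone (⊤ : Subgroup G) h ha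

omit [Finite G] [Fact (Nat.Prime 3)] in
theorem Setting.n3 (h : Setting G n x) : 3 ≤ n := le_of_lt h.hn

theorem Setting.layer (h : Setting G n x) {k : ℕ} (hk : 1 ≤ k) (hkn : k ≤ n - 2) :
    ∃ u ∈ γ k, u ∉ γ (k + 1) := by
  refine SetLike.exists_of_lt (lt_of_le_of_ne
    (Subgroup.lowerCentralSeries_antitone (⊤ : Subgroup G) (Nat.le_succ k)) fun he => ?_)
  have h1 := card_lcs h.n3 h.hG h.hcl (i := k) hk
  have h2 := card_lcs h.n3 h.hG h.hcl (i := k + 1) (by omega)
  rw [he, h1] at h2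
  have := Nat.pow_right_injective (le_refl 2 |>.trans (by norm_num : 2 ≤ 3)) h2
  omega

/-- Two elements of the layer `k` differ by a power modulo `γ (k+1)`. -/
theorem Setting.gen_layer (h : Setting G n x) {k : ℕ} (hk : 1 ≤ k) {u : G} (hu : u ∈ γ k)
    (hu' : u ∉ γ (k + 1)) : γ k ≤ closure (insert u (γ (k + 1) : Set G)) := by
  rw [Set.insert_eq, Subgroup.closure_union, ← zpowers_eq_closure, closure_eq]
  refine (eq_of_le_of_card_ge
    (sup_le (zpowers_le.mpr hu) (Subgroup.lowerCentralSeries_antitone (⊤ : Subgroup G) (Nat.le_succ k))) ?_).ge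
  have h1 := PGroup.mul_card_le_card (IsPGroup.of_card h.hG) (H := γ (k + 1)) (K := zpowers u ⊔ γ (k + 1))
    (right_lt_sup.mpr fun hh => hu' (hh (mem_zpowers u)))
  rw [card_lcs h.n3 h.hG h.hcl hk]
  rw [card_lcs h.n3 h.hG h.hcl (by omega : 1 ≤ k + 1), ← pow_succ'] at h1
  exact (Nat.pow_le_pow_right (by norm_num) (by omega)).trans h1

theorem Setting.pow_mem_one (h : Setting G n x) (g : G) : g ^ 3 ∈ γ 1 := by
  have hP := IsPGroup.of_card h.hG
  have hi := PGroup.index_commutator_of_maximal h.n3 h.hG (class_eq h.n3 h.hG h.hcl)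
  have hf := PGroup.frattini_eq_commutator_of_index_sq hP
    (PGroup.not_cyclic_of_lcs_ne_bot (by have := h.hn; omega) h.hcl) hi
  rw [Subgroup.top_lowerCentralSeries_one, ← hf]
  exact PGroup.pow_mem_frattini hP g

/-- The two-step centralizer of `γ 1` modulo `γ 3`. -/
theorem Setting.exists_twoStep (h : Setting G n x) :
    ∃ D : Subgroup G, D.Normal ∧ D.index = 3 ∧ γ 1 ≤ D ∧ x ∉ D ∧
      ∀ d ∈ D, ∀ u ∈ γ 1, ⁅u, d⁆ ∈ γ 3 := by
  have hn := h.hn
  obtain ⟨s, hs, hs'⟩ := h.layer (le_refl 1) (by omega)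
  let π := QuotientGroup.mk' (γ 3)
  have hc : ∀ a ∈ γ 2, ∀ g : G, π g * π a = π a * π g := fun a ha g => by
    have h1 : π ⁅a, g⁆ = 1 := (QuotientGroup.eq_one_iff _).mpr (lcs_succ_mem ha g)
    rw [map_commutatorElement, commutatorElement_eq_one_iff_mul_comm] at h1
    exact h1.symm
  have hsm : ∀ g, π ⁅s, g⁆ ∈ (γ 2).map π := fun g => mem_map_of_mem π (lcs_succ_mem hs g)
  let f : G →* (γ 2).map π := MonoidHom.mk' (fun g => ⟨π ⁅s, g⁆, hsm g⟩) fun a b => Subtype.ext (by
    show π ⁅s, a * b⁆ = π ⁅s, a⁆ * π ⁅s, b⁆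
    rw [show ⁅s, a * b⁆ = ⁅s, a⁆ * (a * ⁅s, b⁆ * a⁻¹) by simp only [commutatorElement_def]; group,
      map_mul, map_mul, map_mul, hc _ (lcs_succ_mem hs b) a, map_inv, mul_inv_cancel_right])
  have hmem : ∀ g, g ∈ f.ker ↔ ⁅s, g⁆ ∈ γ 3 := fun g => by
    rw [MonoidHom.mem_ker, ← QuotientGroup.eq_one_iff (N := γ 3)]
    exact ⟨fun hh => congrArg Subtype.val hh, fun hh => Subtype.ext hh⟩
  have hcentral : ∀ d ∈ f.ker, ∀ u ∈ γ 1, ⁅u, d⁆ ∈ γ 3 := by
    intro d hd u hu
    have hle : ⁅closure (insert s (γ 2 : Set G)), closure ({d} : Set G)⁆ ≤ γ 3 := by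
      refine commutator_closure_le _ _ _ ?_
      rintro a ha b rfl
      rcases Set.mem_insert_iff.mp ha with rfl | ha
      · exact (hmem _).mp hd
      · exact lcs_succ_mem ha _
    exact hle (commutator_mem_commutator (h.gen_layer le_rfl hs hs' hu) (subset_closure rfl))
  have hxD : x ∉ f.ker := fun hh =>
    layer_commutator h.n3 h.hG h.hcl h.hC le_rfl (by omega) hs hs' ((hmem x).mp hh)
  refine ⟨f.ker, inferInstance, ?_, ?_, hxD, hcentral⟩
  · have h1 : Nat.card f.range ≤ 3 := by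
      refine (Subgroup.card_le_card_group _).trans ?_
      have h2 := card_map_mk' (γ 3) (E := γ 2)
        (Subgroup.lowerCentralSeries_antitone (⊤ : Subgroup G) (by norm_num))
      rw [card_lcs h.n3 h.hG h.hcl (by norm_num : 1 ≤ 2), card_lcs h.n3 h.hG h.hcl (by norm_num : 1 ≤ 3)] at h2
      rw [show n - 1 - 2 = n - 1 - 3 + 1 by omega, pow_succ'] at h2
      exact (Nat.eq_of_mul_eq_mul_right (Nat.pow_pos (by norm_num)) h2).le
    rw [index_ker]
    rcases (Nat.dvd_prime (Fact.out : Nat.Prime 3)).mp (by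
      obtain ⟨k, hk⟩ := PGroup.index_eq_pow (IsPGroup.of_card h.hG) f.ker
      rw [index_ker] at hk
      have : k ≤ 1 := (Nat.pow_le_pow_iff_right (by norm_num : 1 < 3)).mp (by rw [← hk, pow_one]; exact h1)
      rw [hk]
      exact (Nat.pow_dvd_pow 3 this).trans (by rw [pow_one]) : Nat.card f.range ∣ 3) with h3 | h3
    · exact absurd (MonoidHom.mem_ker.mpr (by
        haveI : Subsingleton f.range := (Nat.card_eq_one_iff_unique.mp h3).1
        exact congrArg Subtype.val (Subsingleton.elim (⟨f x, ⟨x, rfl⟩⟩ : f.range) 1))) hxD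
    · exact h3
  · intro u hu
    refine (hmem u).mpr ?_
    exact mem_of_le (by norm_num) (lcs_comm_mem hs hu)

/-- `[γ i, D] ≤ γ (i+2)`. -/
theorem Setting.comm_twoStep (h : Setting G n x) {D : Subgroup G} [D.Normal] (hD1 : γ 1 ≤ D)
    (hD : ∀ d ∈ D, ∀ u ∈ γ 1, ⁅u, d⁆ ∈ γ 3) :
    ∀ i, 1 ≤ i → ∀ u ∈ γ i, ∀ d ∈ D, ⁅u, d⁆ ∈ γ (i + 2) := by
  have hn := h.hn
  intro i
  induction i using Nat.strong_induction_on with
  | _ i ih =>
  intro hi u hu d hd
  rcases (show i = 1 ∨ i = 2 ∨ 3 ≤ i by omega) with rfl | rfl | hi3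
  · exact hD d hd u hu
  · obtain ⟨s, hs, hs'⟩ := h.layer (le_refl 1) (by omega)
    have h11 : ⁅γ 1, γ 1⁆ ≤ γ 4 := by
      refine (Subgroup.commutator_mono (h.gen_layer le_rfl hs hs') (h.gen_layer le_rfl hs hs')).trans
        (commutator_closure_le _ _ _ ?_)
      intro a ha b hb
      rcases Set.mem_insert_iff.mp ha with ha' | ha'
      · subst ha'
        rcases Set.mem_insert_iff.mp hb with hb' | hb'
        · rw [hb', commutatorElement_self]; exact one_mem _
        · exact mem_of_le (by norm_num) (lcs_comm_mem hs hb')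
      · rcases Set.mem_insert_iff.mp hb with hb' | hb'
        · exact mem_of_le (by norm_num) (lcs_comm_mem ha' (hb' ▸ hs : b ∈ γ 1))
        · exact mem_of_le (by norm_num) (lcs_comm_mem ha' hb')
    have key : ⁅⁅γ 1, (⊤ : Subgroup G)⁆, D⁆ ≤ γ 4 := by
      refine S4206.three_sub ?_ ?_
      · refine (Subgroup.commutator_mono ?_ le_rfl).trans h11
        rw [Subgroup.top_lowerCentralSeries_one, _root_.commutator_def]
        exact Subgroup.commutator_mono le_rfl le_top
      · refine (Subgroup.commutator_mono (?_ : ⁅D, γ 1⁆ ≤ γ 3) le_rfl).trans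
          (fun w hw => mem_of_le (i := 3 + 1) (by norm_num) (by rw [Subgroup.lowerCentralSeries_succ]; exact hw))
        rw [Subgroup.commutator_comm, Subgroup.commutator_le]
        exact fun a ha b hb => hD b hb a ha
    exact mem_of_le (by norm_num) (key (commutator_mem_commutator (by
      have h2 : u ∈ γ (1 + 1) := mem_of_le (by norm_num) hu
      rwa [Subgroup.lowerCentralSeries_succ] at h2) hd))
  · by_cases hin : n - 1 ≤ i
    · rw [lcs_high h.n3 h.hG hin, mem_bot] at hu
      rw [hu, commutatorElement_one_left]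
      exact one_mem _
    obtain ⟨v, hv, hv'⟩ := h.layer (k := i - 2) (by omega) (by omega)
    have hv3 : v ^ 3 ∈ γ i := by
      have h1 := pow_mem_shift h.n3 h.hG h.hcl h.hx h.hC n (i - 2) (by omega) (by omega) v hv
      rwa [show i - 2 + 3 - 1 = i by omega] at h1
    have hv3' : v ^ 3 ∉ γ (i + 1) := by
      have h1 := pow_not_mem_shift h.n3 h.hG h.hcl h.hx h.hC (j := i - 2) (by omega) (by omega) hv hv'
      rwa [show i - 2 + 3 = i + 1 by omega] at h1
    let π := QuotientGroup.mk' (γ (i + 2))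
    have hle : ⁅closure (insert (v ^ 3) (γ (i + 1) : Set G)), closure ({d} : Set G)⁆ ≤ γ (i + 2) := by
      refine commutator_closure_le _ _ _ ?_
      rintro a ha b rfl
      rcases Set.mem_insert_iff.mp ha with rfl | ha
      · set c := ⁅v⁻¹, b⁆ with hc
        have hci : c ∈ γ i := by
          have h1 := ih (i - 2) (by omega) (by omega) v⁻¹ (inv_mem hv) b hd
          rwa [show i - 2 + 2 = i by omega] at h1
        have hcv : π c * π v = π v * π c := by
          have h1 : π ⁅c, v⁆ = 1 := (QuotientGroup.eq_one_iff _).mpr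
            (Subgroup.lowerCentralSeries_antitone (⊤ : Subgroup G) (by omega) (lcs_comm_mem hci hv))
          rwa [map_commutatorElement, commutatorElement_eq_one_iff_mul_comm] at h1
        have hc3 : π (c ^ 3) = 1 := (QuotientGroup.eq_one_iff _).mpr
          (pow_mem_shift h.n3 h.hG h.hcl h.hx h.hC n i (by omega) (by omega) c hci)
        have hconj : π (b * v ^ 3 * b⁻¹) = π (v ^ 3) := by
          rw [← conj_pow, show b * v * b⁻¹ = v * c by rw [hc]; simp only [commutatorElement_def]; group,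
            map_pow, map_mul, Commute.mul_pow (Commute.symm hcv), ← map_pow, ← map_pow, hc3, mul_one]
        refine (QuotientGroup.eq_one_iff _).mp ?_
        show π ⁅v ^ 3, b⁆ = 1
        rw [show ⁅v ^ 3, b⁆ = v ^ 3 * (b * v ^ 3 * b⁻¹)⁻¹ by simp only [commutatorElement_def]; group,
          map_mul, map_inv, hconj, mul_inv_cancel]
      · exact lcs_succ_mem ha _
    exact hle (commutator_mem_commutator (h.gen_layer (by omega) hv3 hv3' hu) (subset_closure rfl))

/-- One of `g`, `g x⁻¹`, `g x` lies in the two-step centralizer. -/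
theorem Setting.coset (h : Setting G n x) {D : Subgroup G} [D.Normal] (hi : D.index = 3) (hxD : x ∉ D)
    (g : G) : g ∈ D ∨ g * x⁻¹ ∈ D ∨ g * x ∈ D := by
  let π := QuotientGroup.mk' D
  have hord : orderOf (π x) = 3 := orderOf_eq_prime
    (by rw [← map_pow, h.hx, map_one]) fun hh => hxD ((QuotientGroup.eq_one_iff x).mp hh)
  have htop : zpowers (π x) = ⊤ := by
    refine eq_of_le_of_card_ge le_top ?_
    rw [card_top, Nat.card_zpowers, hord, ← Subgroup.index_eq_card, hi]
  obtain ⟨a, ha⟩ := mem_zpowers_iff.mp (htop.ge (mem_top (π g)))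
  rw [← zpow_mod_orderOf, hord] at ha
  rcases (show a % ((3 : ℕ) : ℤ) = 0 ∨ a % ((3 : ℕ) : ℤ) = 1 ∨ a % ((3 : ℕ) : ℤ) = 2 by omega) with h0 | h0 | h0
  · rw [h0, zpow_zero] at ha
    exact Or.inl ((QuotientGroup.eq_one_iff g).mp ha.symm)
  · rw [h0, zpow_one] at ha
    refine Or.inr (Or.inl ((QuotientGroup.eq_one_iff _).mp ?_))
    show π (g * x⁻¹) = 1
    rw [map_mul, map_inv, ← ha, mul_inv_cancel]
  · rw [h0] at ha
    refine Or.inr (Or.inr ((QuotientGroup.eq_one_iff _).mp ?_))
    show π (g * x) = 1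
    have h3 : π x ^ (3 : ℕ) = 1 := by rw [← map_pow, h.hx, map_one]
    rw [map_mul, ← ha, zpow_two, mul_assoc]
    rw [pow_three] at h3
    exact h3

/-- Elements outside the two-step centralizer move every layer one step. -/
theorem Setting.layer_outside (h : Setting G n x) {D : Subgroup G} [D.Normal] (hD1 : γ 1 ≤ D)
    (hD : ∀ d ∈ D, ∀ u ∈ γ 1, ⁅u, d⁆ ∈ γ 3) (hi : D.index = 3) (hxD : x ∉ D) {z : G} (hz : z ∉ D)
    {k : ℕ} (hk : 1 ≤ k) (hkn : k + 1 ≤ n - 2) {u : G} (hu : u ∈ γ k) (hu' : u ∉ γ (k + 1)) :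
    ⁅u, z⁆ ∉ γ (k + 2) := by
  intro hcon
  refine layer_commutator h.n3 h.hG h.hcl h.hC hk hkn hu hu' ?_
  let π := QuotientGroup.mk' (γ (k + 2))
  have hmem : ∀ g, ⁅u, g⁆ ∈ γ (k + 2) ↔ g ∈ (centralizer ({π u} : Set (G ⧸ γ (k + 2)))).comap π := fun g => by
    rw [mem_comap, mem_centralizer_singleton_iff, ← QuotientGroup.eq_one_iff (N := γ (k + 2))]
    show π ⁅u, g⁆ = 1 ↔ _
    rw [map_commutatorElement, commutatorElement_eq_one_iff_mul_comm]
    exact eq_comm
  set C := (centralizer ({π u} : Set (G ⧸ γ (k + 2)))).comap π with hC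
  have hzC : z ∈ C := (hmem z).mp hcon
  have hdC : ∀ d ∈ D, d ∈ C := fun d hd => (hmem d).mp (h.comm_twoStep hD1 hD k hk u hu d hd)
  refine (hmem x).mpr ?_
  rcases h.coset hi hxD z with h0 | h0 | h0
  · exact absurd h0 hz
  · have h1 := mul_mem (inv_mem (hdC _ h0)) hzC
    rw [show (z * x⁻¹)⁻¹ * z = x by group] at h1
    exact h1
  · have h1 := mul_mem (inv_mem hzC) (hdC _ h0)
    rwa [inv_mul_cancel_left] at h1

theorem Setting.pow_outside (h : Setting G n x) {D : Subgroup G} [D.Normal] (hD1 : γ 1 ≤ D)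
    (hD : ∀ d ∈ D, ∀ u ∈ γ 1, ⁅u, d⁆ ∈ γ 3) (hi : D.index = 3) (hxD : x ∉ D) {z : G} (hz : z ∉ D) :
    z ^ 3 ∈ γ (n - 2) := by
  have hn := h.hn
  have key : ∀ d k, 1 ≤ k → k ≤ n - 2 → n - 2 ≤ k + d → z ^ 3 ∈ γ k → z ^ 3 ∈ γ (n - 2) := by
    intro d
    induction d with
    | zero =>
      intro k _ hk2 hk3 hmem
      rwa [show n - 2 = k by omega]
    | succ d ihd =>
      intro k hk hk2 _ hmem
      by_cases hk' : k = n - 2
      · rwa [← hk']
      refine ihd (k + 1) (by omega) (by omega) (by omega) ?_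
      by_contra hnot
      refine h.layer_outside hD1 hD hi hxD hz hk (by omega) hmem hnot ?_
      rw [commutatorElement_eq_one_iff_mul_comm.mpr (Commute.pow_self z 3).eq]
      exact one_mem _
  exact key n 1 le_rfl (by omega) (by omega) (h.pow_mem_one z)

theorem Setting.closure_pair (h : Setting G n x) {D : Subgroup G} (hD1 : γ 1 ≤ D) (hi : D.index = 3)
    {z y : G} (hz : z ∉ D) (hy : y ∈ D) (hy' : y ∉ γ 1) : closure ({z, y} : Set G) = ⊤ := by
  have hP := IsPGroup.of_card h.hG
  refine PGroup.closure_eq_top_of_sup_frattini (top_le_iff.mp ?_)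
  have hγ : γ 1 ≤ frattini G := by
    rw [Subgroup.top_lowerCentralSeries_one]
    exact PGroup.commutator_le_frattini hP
  refine le_trans (le_of_eq ?_) (sup_le_sup le_rfl hγ)
  rw [Set.insert_eq, Subgroup.closure_union, ← zpowers_eq_closure, ← zpowers_eq_closure]
  refine (eq_of_le_of_card_ge le_top ?_).symm
  have h1 := PGroup.mul_card_le_card hP (H := γ 1) (K := zpowers y ⊔ γ 1)
    (right_lt_sup.mpr fun hh => hy' (hh (mem_zpowers y)))
  have h2 := PGroup.mul_card_le_card hP (H := zpowers y ⊔ γ 1) (K := zpowers z ⊔ zpowers y ⊔ γ 1)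
    (SetLike.lt_iff_le_and_exists.mpr ⟨sup_le (le_sup_right.trans le_sup_left) le_sup_right, z,
      mem_sup_left (mem_sup_left (mem_zpowers z)), fun hh => hz (sup_le (zpowers_le.mpr hy) hD1 hh)⟩)
  rw [card_lcs h.n3 h.hG h.hcl le_rfl] at h1
  rw [card_top, h.hG]
  have hn := h.hn
  calc 3 ^ n = 3 * (3 * 3 ^ (n - 1 - 1)) := by rw [← pow_succ', ← pow_succ']; congr 1; omega
    _ ≤ 3 * Nat.card ↥(zpowers y ⊔ γ 1) := Nat.mul_le_mul_left 3 h1
    _ ≤ _ := h2

/-- The cube of an element of `D ∖ γ 1` modulo `γ 3`. -/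
theorem Setting.pow_inside (h : Setting G n x) {D : Subgroup G} [D.Normal] (hD1 : γ 1 ≤ D)
    (hD : ∀ d ∈ D, ∀ u ∈ γ 1, ⁅u, d⁆ ∈ γ 3) (hi : D.index = 3) (hxD : x ∉ D) {y : G} (hy : y ∈ D)
    (hy' : y ∉ γ 1) : y ^ 3 ∈ γ 2 ∧ (5 ≤ n → y ^ 3 ∉ γ 3) := by
  have hn := h.hn
  set c := ⁅x, y⁆ with hcdef
  have hc1 : c ∈ γ 1 := by
    rw [Subgroup.top_lowerCentralSeries_one]
    exact commutator_mem_commutator (mem_top x) (mem_top y)
  have hc2 : c ∉ γ 2 := by
    intro hcc
    obtain ⟨u, hu, hu'⟩ := h.layer (le_refl 1) (by omega)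
    refine hu' ?_
    have hle : ⁅closure ({x, y} : Set G), closure ({x, y} : Set G)⁆ ≤ γ 2 := by
      refine commutator_closure_le _ _ _ ?_
      rintro a (rfl | rfl) b (rfl | rfl)
      · rw [commutatorElement_self]; exact one_mem _
      · exact hcc
      · have h1 := inv_mem (show ⁅b, a⁆ ∈ γ 2 from hcc)
        rwa [commutatorElement_inv] at h1
      · rw [commutatorElement_self]; exact one_mem _
    rw [h.closure_pair hD1 hi hxD hy hy', ← _root_.commutator_def] at hle
    rw [Subgroup.top_lowerCentralSeries_one] at hu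
    exact hle hu
  set e := ⁅x, c⁆ with hedef
  have he : e ∈ γ 2 := by
    rw [hedef, ← commutatorElement_inv]
    exact inv_mem (lcs_succ_mem hc1 x)
  have he' : e ∉ γ 3 := fun hh => layer_commutator h.n3 h.hG h.hcl h.hC le_rfl (by omega) hc1 hc2 (by
    have h1 := inv_mem hh
    rwa [hedef, commutatorElement_inv] at h1)
  have hyx : y * x ∉ D := fun hh => hxD (by
    have h1 := mul_mem (inv_mem hy) hh
    rwa [inv_mul_cancel_left] at h1)
  have hz : (y * x) ^ 3 ∈ γ (n - 2) := h.pow_outside hD1 hD hi hxD hyx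
  let π := QuotientGroup.mk' (γ 3)
  have hyc : π y * π c = π c * π y := by
    have h1 : π ⁅c, y⁆ = 1 := (QuotientGroup.eq_one_iff _).mpr (hD y hy c hc1)
    rw [map_commutatorElement, commutatorElement_eq_one_iff_mul_comm] at h1
    exact h1.symm
  have hec : ∀ g, π g * π e = π e * π g := fun g => by
    have h1 : π ⁅e, g⁆ = 1 := (QuotientGroup.eq_one_iff _).mpr (lcs_succ_mem he g)
    rw [map_commutatorElement, commutatorElement_eq_one_iff_mul_comm] at h1
    exact h1.symm
  have hc3 : π (c ^ 3) = 1 := (QuotientGroup.eq_one_iff _).mpr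
    (pow_mem_shift h.n3 h.hG h.hcl h.hx h.hC n 1 le_rfl (by omega) c hc1)
  have hid : (y * x) ^ 3 = y * (c * y) * (e * c * (c * y)) := by
    have h1 : x * x * x = 1 := by rw [← h.hx, pow_three, mul_assoc]
    calc (y * x) ^ 3 = y * (c * y) * (e * c * (c * y)) * (x * x * x) := by
          simp only [hedef, hcdef, commutatorElement_def, pow_three]; group
      _ = _ := by rw [h1, mul_one]
  have hval : π ((y * x) ^ 3) = π (y ^ 3) * π e := by
    rw [hid]
    simp only [map_mul, map_pow] at hc3 ⊢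
    have hyc' : Commute (π y) (π c) := hyc
    have hye : Commute (π y) (π e) := hec y
    have hce : Commute (π c) (π e) := hec c
    calc π y * (π c * π y) * (π e * π c * (π c * π y))
        = π y * (π y * π c) * (π c * π e * (π y * π c)) := by rw [← hyc'.eq, hce.eq]
      _ = π y * π y * (π c * π c * π e * π y) * π c := by group
      _ = π y * π y * (π y * (π c * π c * π e)) * π c := by
          rw [((hyc'.mul_right hyc').mul_right hye).eq]
      _ = π y * π y * π y * (π c * π c * π c) * π e := by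
          rw [show π y * π y * (π y * (π c * π c * π e)) * π c = π y * π y * π y * (π c * π c) * (π e * π c) by group,
            ← hce.eq]
          group
      _ = π y ^ 3 * π e := by
          rw [show π c * π c * π c = π c ^ 3 by rw [pow_three, mul_assoc], hc3, mul_one, pow_three]
          simp only [mul_assoc]
  have hy3 : ∀ m, m ≤ 3 → (y * x) ^ 3 ∈ γ m → (y ^ 3 ∈ γ m ↔ e ∈ γ m) := by
    intro m hm hmem
    have h1 : QuotientGroup.mk' (γ 3) ((y * x) ^ 3) = QuotientGroup.mk' (γ 3) (y ^ 3 * e) := by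
      rw [map_mul]; exact hval
    have h2 : ((y * x) ^ 3)⁻¹ * (y ^ 3 * e) ∈ γ m :=
      Subgroup.lowerCentralSeries_antitone (⊤ : Subgroup G) hm (QuotientGroup.eq.mp h1)
    have h3 : y ^ 3 * e ∈ γ m := by
      have := mul_mem hmem h2
      rwa [mul_inv_cancel_left] at this
    exact ⟨fun hh => by simpa using mul_mem (inv_mem hh) h3, fun hh => by simpa using mul_mem h3 (inv_mem hh)⟩
  refine ⟨(hy3 2 (by norm_num) (Subgroup.lowerCentralSeries_antitone (⊤ : Subgroup G) (by omega) hz)).mpr he,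
    fun h5 hh => he' ((hy3 3 le_rfl (Subgroup.lowerCentralSeries_antitone (⊤ : Subgroup G) (by omega) hz)).mp hh)⟩

/-- A subgroup `K` of `H` meeting all the layers that `H` meets contains `H ⊓ γ i`. -/
theorem Setting.inf_le_of_layers (h : Setting G n x) {H K : Subgroup G} (hKH : K ≤ H)
    (hlay : ∀ i, 1 ≤ i → i ≤ n - 2 → ∀ a ∈ H, a ∈ γ i → a ∉ γ (i + 1) → ∃ k ∈ K, k ∈ γ i ∧ k ∉ γ (i + 1)) :
    H ⊓ γ 1 ≤ K := by
  have hdown : ∀ d i, 1 ≤ i → n - 1 ≤ i + d → H ⊓ γ i ≤ K := by
    intro d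
    induction d with
    | zero =>
      intro i _ hin
      rw [lcs_high h.n3 h.hG (by omega : n - 1 ≤ i), inf_bot_eq]
      exact bot_le
    | succ d ihd =>
      intro i hi hin a ha
      obtain ⟨haH, hai⟩ := mem_inf.mp ha
      by_cases hh' : a ∈ γ (i + 1)
      · exact ihd (i + 1) (by omega) (by omega) (mem_inf.mpr ⟨haH, hh'⟩)
      have hin2 : i ≤ n - 2 := by
        by_contra hlt
        refine hh' ?_
        rw [lcs_high h.n3 h.hG (by omega : n - 1 ≤ i)] at hai
        rw [mem_bot.mp hai]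
        exact one_mem _
      obtain ⟨k, hkK, hk, hk'⟩ := hlay i hi hin2 a haH hai hh'
      have h1 := h.gen_layer hi hk hk' hai
      rw [Set.insert_eq, Subgroup.closure_union, ← zpowers_eq_closure, closure_eq] at h1
      obtain ⟨u, hu, b, hb, hab⟩ := mem_sup_of_normal_right.mp h1
      obtain ⟨m, rfl⟩ := mem_zpowers_iff.mp hu
      have hbH : b ∈ H := by
        have h2 : (k ^ m)⁻¹ * a = b := by rw [← hab]; group
        exact h2 ▸ mul_mem (inv_mem (H.zpow_mem (hKH hkK) m)) haH
      rw [← hab]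
      exact mul_mem (K.zpow_mem hkK m) (ihd (i + 1) (by omega) (by omega) (mem_inf.mpr ⟨hbH, hb⟩))
  exact hdown n 1 le_rfl (by omega)

set_option maxHeartbeats 400000 in
/-- The main theorem: rank two, or an elementary abelian maximal subgroup in order `81`. -/
theorem Setting.rank_two (h : Setting G n x) (H : Subgroup G) :
    (∃ T : Finset G, T.card ≤ 2 ∧ closure (T : Set G) = H) ∨
      (n = 4 ∧ ∃ D : Subgroup G, D.index = 3 ∧ γ 1 ≤ D ∧ x ∉ D ∧ (∀ a ∈ D, ∀ b ∈ D, a * b = b * a) ∧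
        ∀ a ∈ D, a ^ 3 = 1) := by
  classical
  have hn := h.hn
  have hP := IsPGroup.of_card h.hG
  obtain ⟨D, hDn, hi, hD1, hxD, hD⟩ := h.exists_twoStep
  haveI := hDn
  by_cases hH1 : H ≤ γ 1
  · exact Or.inl (rank_below h.n3 h.hG h.hcl h.hx h.hC H hH1)
  by_cases hHD : H ≤ D
  · obtain ⟨y, hy, hy'⟩ := SetLike.not_le_iff_exists.mp hH1
    have hyD : y ∈ D := hHD hy
    have hDy : D ≤ zpowers y ⊔ γ 1 := by
      refine (eq_of_le_of_card_ge (sup_le (zpowers_le.mpr hyD) hD1) ?_).ge
      have h1 := PGroup.mul_card_le_card hP (H := γ 1) (K := zpowers y ⊔ γ 1)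
        (right_lt_sup.mpr fun hh => hy' (hh (mem_zpowers y)))
      rw [card_lcs h.n3 h.hG h.hcl le_rfl] at h1
      have h2 := D.card_mul_index
      rw [hi, h.hG, show n = n - 1 - 1 + 1 + 1 by omega, pow_succ] at h2
      rw [Nat.eq_of_mul_eq_mul_right (by norm_num) h2, pow_succ']
      exact h1
    obtain ⟨hy2, hy3⟩ := h.pow_inside hD1 hD hi hxD hyD hy'
    -- the least odd layer of `H`
    let R : ℕ → Prop := fun i => i % 2 = 1 ∧ i ≤ n - 2 ∧ ∃ a ∈ H, a ∈ γ i ∧ a ∉ γ (i + 1)
    have hgen : ∀ K : Subgroup G, K ≤ H → y ∈ K → H ⊓ γ 1 ≤ K → K = H := fun K hK hyK hle => by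
      refine le_antisymm hK fun a ha => ?_
      obtain ⟨u, hu, b, hb, hab⟩ := mem_sup_of_normal_right.mp (hDy (hHD ha))
      obtain ⟨m, rfl⟩ := mem_zpowers_iff.mp hu
      have hbH : b ∈ H := by
        have h2 : (y ^ m)⁻¹ * a = b := by rw [← hab]; group
        exact h2 ▸ mul_mem (inv_mem (H.zpow_mem hy m)) ha
      rw [← hab]
      exact mul_mem (K.zpow_mem hyK m) (hle (mem_inf.mpr ⟨hbH, hb⟩))
    by_cases h4 : n = 4
    · have hγ3 : γ 3 = ⊥ := lcs_high h.n3 h.hG (by omega)
      have hcommD : ∀ a ∈ D, ∀ b ∈ γ 1, a * b = b * a := fun a ha b hb => by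
        have h1 := hD a ha b hb
        rw [hγ3, mem_bot, commutatorElement_eq_one_iff_mul_comm] at h1
        exact h1.symm
      by_cases hyexp : y ^ 3 = 1
      · refine Or.inr ⟨h4, D, hi, hD1, hxD, ?_, ?_⟩
        · have hle : D ≤ centralizer (D : Set G) := by
            refine hDy.trans (sup_le (zpowers_le.mpr (mem_centralizer_iff.mpr fun a ha => ?_))
              fun b hb => mem_centralizer_iff.mpr fun a ha => hcommD a ha b hb)
            obtain ⟨u, hu, b, hb, rfl⟩ := mem_sup_of_normal_right.mp (hDy ha)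
            obtain ⟨m, rfl⟩ := mem_zpowers_iff.mp hu
            rw [mul_assoc, ← hcommD y hyD b hb, ← mul_assoc, ← mul_assoc, (Commute.zpow_self y m).eq]
          exact fun a ha b hb => (mem_centralizer_iff.mp (hle hb) a ha)
        · intro a ha
          obtain ⟨u, hu, b, hb, rfl⟩ := mem_sup_of_normal_right.mp (hDy ha)
          obtain ⟨m, rfl⟩ := mem_zpowers_iff.mp hu
          have hb3 : b ^ 3 = 1 := by
            have h1 := pow_mem_shift h.n3 h.hG h.hcl h.hx h.hC n 1 le_rfl (by omega) b hb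
            rwa [show 1 + 3 - 1 = 3 from rfl, hγ3, mem_bot] at h1
          have hc : Commute (y ^ m) b := (show Commute y b from hcommD y hyD b hb).zpow_left m
          rw [hc.mul_pow, hb3, mul_one, ← zpow_natCast, ← zpow_mul, mul_comm, zpow_mul, zpow_natCast, hyexp, one_zpow]
      · left
        by_cases hodd : ∃ a ∈ H, a ∈ γ 1 ∧ a ∉ γ 2
        · obtain ⟨a, ha, ha1, ha2⟩ := hodd
          refine ⟨{y, a}, Finset.card_le_two, ?_⟩
          rw [Finset.coe_insert, Finset.coe_singleton]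
          have hKH : closure ({y, a} : Set G) ≤ H := by
            rw [closure_le, Set.insert_subset_iff, Set.singleton_subset_iff]; exact ⟨hy, ha⟩
          refine hgen _ hKH (subset_closure (Set.mem_insert y _)) (h.inf_le_of_layers hKH ?_)
          intro i hi1 hi2 b _ hb hb'
          rcases (show i = 1 ∨ i = 2 by omega) with rfl | rfl
          · exact ⟨a, subset_closure (Set.mem_insert_of_mem y rfl), ha1, fun hh => ha2 (mem_of_le (by norm_num) hh)⟩
          · refine ⟨y ^ 3, pow_mem (subset_closure (Set.mem_insert y _)) 3, hy2, ?_⟩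
            rw [show (2 : ℕ) + 1 = 3 from rfl, hγ3, mem_bot]
            exact hyexp
        · refine ⟨{y}, by simp, ?_⟩
          rw [Finset.coe_singleton]
          have hKH : closure ({y} : Set G) ≤ H := by
            rw [closure_le, Set.singleton_subset_iff]; exact hy
          refine hgen _ hKH (subset_closure rfl) (h.inf_le_of_layers hKH ?_)
          intro i hi1 hi2 b hbH hb hb'
          rcases (show i = 1 ∨ i = 2 by omega) with rfl | rfl
          · exact (hodd ⟨b, hbH, hb, fun hh => hb' (mem_of_le (i := 2) (j := 1 + 1) (by norm_num) hh)⟩).elim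
          · refine ⟨y ^ 3, pow_mem (subset_closure (Set.mem_singleton y)) 3, hy2, ?_⟩
            rw [show (2 : ℕ) + 1 = 3 from rfl, hγ3, mem_bot]
            exact hyexp
    left
    have hy3' := hy3 (by omega)
    have hstep : ∀ (K : Subgroup G) (i : ℕ), 1 ≤ i → i + 2 ≤ n - 2 →
        (∃ k ∈ K, k ∈ γ i ∧ k ∉ γ (i + 1)) → ∃ k ∈ K, k ∈ γ (i + 2) ∧ k ∉ γ (i + 2 + 1) := by
      rintro K i hi1 hin ⟨k, hk, h1, h2⟩
      refine ⟨k ^ 3, K.pow_mem hk 3, ?_, ?_⟩
      · exact pow_mem_shift h.n3 h.hG h.hcl h.hx h.hC n i hi1 (by omega) k h1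
      · exact pow_not_mem_shift h.n3 h.hG h.hcl h.hx h.hC hi1 (by omega) h1 h2
    have hlayers : ∀ (K : Subgroup G) (i₀ : ℕ), y ∈ K → (i₀ % 2 = 1 → ∃ k ∈ K, k ∈ γ i₀ ∧ k ∉ γ (i₀ + 1)) →
        ∀ i, 1 ≤ i → i ≤ n - 2 → (i % 2 = 1 → i₀ % 2 = 1 ∧ i₀ ≤ i) → ∃ k ∈ K, k ∈ γ i ∧ k ∉ γ (i + 1) := by
      intro K i₀ hyK hK0 i
      induction i using Nat.strong_induction_on with
      | _ i ih =>
      intro hi1 hin hodd
      by_cases hi2 : i = 2
      · subst hi2
        exact ⟨y ^ 3, K.pow_mem hyK 3, hy2, hy3'⟩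
      by_cases hi0 : i = i₀ ∧ i % 2 = 1
      · rw [hi0.1]
        exact hK0 (hi0.1 ▸ hi0.2)
      have hi3 : 3 ≤ i := by
        rcases Nat.lt_or_ge i 3 with hlt | hge
        · have : i = 1 := by omega
          obtain ⟨h1, h2⟩ := hodd (by omega)
          omega
        · exact hge
      have hrec := ih (i - 2) (by omega) (by omega) (by omega) (fun ho => by
        obtain ⟨h1, h2⟩ := hodd (by omega)
        refine ⟨h1, ?_⟩
        by_contra hlt
        exact hi0 ⟨by omega, by omega⟩)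
      have h5 := hstep K (i - 2) (by omega) (by omega) hrec
      rwa [show i - 2 + 2 = i by omega] at h5
    by_cases hodd : ∃ i, R i
    · obtain ⟨hi₀1, -, a, ha, ha1, ha2⟩ := Nat.find_spec hodd
      refine ⟨{y, a}, Finset.card_le_two, ?_⟩
      rw [Finset.coe_insert, Finset.coe_singleton]
      have hKH : closure ({y, a} : Set G) ≤ H := by
        rw [closure_le, Set.insert_subset_iff, Set.singleton_subset_iff]; exact ⟨hy, ha⟩
      refine hgen _ hKH (subset_closure (Set.mem_insert y _)) (h.inf_le_of_layers hKH ?_)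
      intro i hi1 hi2 b hbH hb hb'
      refine hlayers (closure ({y, a} : Set G)) (Nat.find hodd) (subset_closure (Set.mem_insert y _))
        (fun _ => ⟨a, subset_closure (Set.mem_insert_of_mem y (Set.mem_singleton a)), ha1, ha2⟩) i hi1 hi2 fun ho => ?_
      exact ⟨hi₀1, Nat.find_le ⟨ho, hi2, b, hbH, hb, hb'⟩⟩
    · refine ⟨{y}, by simp, ?_⟩
      rw [Finset.coe_singleton]
      have hKH : closure ({y} : Set G) ≤ H := by
        rw [closure_le, Set.singleton_subset_iff]; exact hy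
      refine hgen _ hKH (subset_closure rfl) (h.inf_le_of_layers hKH ?_)
      intro i hi1 hi2 b hbH hb hb'
      exact hlayers (closure ({y} : Set G)) 0 (subset_closure (Set.mem_singleton y)) (fun h0 => absurd h0 (by norm_num)) i hi1 hi2
        fun ho => absurd ⟨i, ho, hi2, b, hbH, hb, hb'⟩ hodd
  -- `H` is not inside `D`
  left
  obtain ⟨z, hz, hzD⟩ := SetLike.not_le_iff_exists.mp hHD
  by_cases hHD1 : H ⊓ D ≤ γ 1
  · have hHz : ∀ K : Subgroup G, K ≤ H → z ∈ K → H ⊓ γ 1 ≤ K → K = H := fun K hK hzK hle => by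
      refine le_antisymm hK fun a ha => ?_
      have hin : ∀ b, b ∈ H → b ∈ D → b ∈ K := fun b hb hbD =>
        hle (mem_inf.mpr ⟨hb, hHD1 (mem_inf.mpr ⟨hb, hbD⟩)⟩)
      rcases h.coset hi hxD a with h0 | h0 | h0
      · exact hin a ha h0
      · rcases h.coset hi hxD z with h1 | h1 | h1
        · exact absurd h1 hzD
        · have h2 : a * z⁻¹ ∈ D := by
            have h3 := mul_mem h0 (inv_mem h1)
            rwa [show a * x⁻¹ * (z * x⁻¹)⁻¹ = a * z⁻¹ by group] at h3
          have h3 := mul_mem (hin _ (mul_mem ha (inv_mem hz)) h2) hzK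
          rwa [inv_mul_cancel_right] at h3
        · have h2 : a * z ∈ D := by
            have h3 := mul_mem h0 (Normal.conj_mem hDn _ h1 x)
            rw [show a * x⁻¹ * (x * (z * x) * x⁻¹) = a * z * (x * x⁻¹) by group, mul_inv_cancel, mul_one] at h3
            exact h3
          have h3 := mul_mem (hin _ (mul_mem ha hz) h2) (inv_mem hzK)
          rwa [mul_inv_cancel_right] at h3
      · rcases h.coset hi hxD z with h1 | h1 | h1
        · exact absurd h1 hzD
        · have h2 : a * z ∈ D := by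
            have h3 := mul_mem h0 (Normal.conj_mem hDn _ h1 x⁻¹)
            rwa [show a * x * (x⁻¹ * (z * x⁻¹) * x⁻¹⁻¹) = a * z by group] at h3
          have h3 := mul_mem (hin _ (mul_mem ha hz) h2) (inv_mem hzK)
          rwa [mul_inv_cancel_right] at h3
        · have h2 : a * z⁻¹ ∈ D := by
            have h3 := mul_mem h0 (inv_mem h1)
            rwa [show a * x * (z * x)⁻¹ = a * z⁻¹ by group] at h3
          have h3 := mul_mem (hin _ (mul_mem ha (inv_mem hz)) h2) hzK
          rwa [inv_mul_cancel_right] at h3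
    let R : ℕ → Prop := fun i => 1 ≤ i ∧ i ≤ n - 2 ∧ ∃ a ∈ H, a ∈ γ i ∧ a ∉ γ (i + 1)
    by_cases hR : ∃ i, R i
    · obtain ⟨hi₀1, hi₀2, a, ha, ha1, ha2⟩ := Nat.find_spec hR
      refine ⟨{z, a}, Finset.card_le_two, ?_⟩
      rw [Finset.coe_insert, Finset.coe_singleton]
      set K := closure ({z, a} : Set G) with hK
      have hKH : K ≤ H := by
        rw [hK, closure_le, Set.insert_subset_iff, Set.singleton_subset_iff]; exact ⟨hz, ha⟩
      have hup : ∀ d, Nat.find hR + d ≤ n - 2 →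
          ∃ k ∈ K, k ∈ γ (Nat.find hR + d) ∧ k ∉ γ (Nat.find hR + d + 1) := by
        intro d
        induction d with
        | zero => intro _; exact ⟨a, subset_closure (Set.mem_insert_of_mem z rfl), ha1, ha2⟩
        | succ d ihd =>
          intro hd
          obtain ⟨k, hk, hk1, hk2⟩ := ihd (by omega)
          have hzK : z ∈ K := subset_closure (Set.mem_insert z _)
          refine ⟨⁅k, z⁆, ?_, lcs_succ_mem hk1 z, ?_⟩
          · rw [commutatorElement_def]
            exact mul_mem (mul_mem (mul_mem hk hzK) (inv_mem hk)) (inv_mem hzK)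
          · exact h.layer_outside hD1 hD hi hxD hzD (k := Nat.find hR + d) (by omega) (by omega) hk1 hk2
      refine hHz K hKH (subset_closure (Set.mem_insert z _)) (h.inf_le_of_layers hKH ?_)
      intro i hi1 hi2 b hbH hb hb'
      have h0 : Nat.find hR ≤ i := Nat.find_le ⟨hi1, hi2, b, hbH, hb, hb'⟩
      have h5 := hup (i - Nat.find hR) (by omega)
      rwa [show Nat.find hR + (i - Nat.find hR) = i by omega] at h5
    · refine ⟨{z}, by simp, ?_⟩
      rw [Finset.coe_singleton]
      have hKH : closure ({z} : Set G) ≤ H := by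
        rw [closure_le, Set.singleton_subset_iff]; exact hz
      refine hHz _ hKH (subset_closure rfl) (h.inf_le_of_layers hKH ?_)
      intro i hi1 hi2 b hbH hb hb'
      exact absurd ⟨i, hi1, hi2, b, hbH, hb, hb'⟩ hR
  · obtain ⟨y, hy, hy'⟩ := SetLike.not_le_iff_exists.mp hHD1
    refine ⟨{z, y}, Finset.card_le_two, ?_⟩
    rw [Finset.coe_insert, Finset.coe_singleton]
    refine le_antisymm ?_ (by rw [h.closure_pair hD1 hi hzD (mem_inf.mp hy).2 hy']; exact le_top)
    rw [closure_le, Set.insert_subset_iff, Set.singleton_subset_iff]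
    exact ⟨hz, (mem_inf.mp hy).1⟩

end Cfsg.Agent.Pearl.Three
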