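import Cfsg.Agent.Lib.Pearl.Shift

/-!
# Every subgroup is generated by at most `p` elements
-/

set_option autoImplicit false
set_option linter.style.haveILetI false

namespace Cfsg.Agent.Pearl

open Subgroup
open scoped commutatorElement

universe u

variable {G : Type u} [Group G]

local notation "γ" => Subgroup.lowerCentralSeries (⊤ : Subgroup G)

/-- Subgroups of `γ 1` are generated by at most `p - 1` elements. -/
theorem rank_below {p n : ℕ} [Fact p.Prime] [Finite G] (hn : 3 ≤ n) (hG : Nat.card G = p ^ n)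
    (hcl : γ (n - 2) ≠ ⊥) {x : G} (hx : x ^ p = 1) (hC : Nat.card (centralizer {x}) = p ^ 2)
    (H : Subgroup G) (hH : H ≤ γ 1) : ∃ T : Finset G, T.card ≤ p - 1 ∧ closure (T : Set G) = H := by
  classical
  have hp := (Fact.out : p.Prime)
  have hp2 := hp.two_le
  have hP := IsPGroup.of_card hG
  -- the layers met by `H`
  let R : ℕ → Prop := fun i => 1 ≤ i ∧ i ≤ n - 2 ∧ ∃ h ∈ H, h ∈ γ i ∧ h ∉ γ (i + 1)
  have hstep : ∀ i, R i → i + (p - 1) ≤ n - 2 →
      ∀ h, h ∈ γ i → h ∉ γ (i + 1) → h ^ p ∈ γ (i + (p - 1)) ∧ h ^ p ∉ γ (i + (p - 1) + 1) := by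
    intro i hi hin h h1 h2
    rw [show i + (p - 1) = i + p - 1 by omega, show i + p - 1 + 1 = i + p by omega]
    exact ⟨pow_mem_shift hn hG hcl hx hC n i hi.1 (by omega) h h1,
      pow_not_mem_shift hn hG hcl hx hC hi.1 (by omega) h1 h2⟩
  have hclosed : ∀ m i, R i → i + m * (p - 1) ≤ n - 2 → R (i + m * (p - 1)) := by
    intro m
    induction m with
    | zero => intro i hi _; rwa [Nat.zero_mul, Nat.add_zero]
    | succ m ihm =>
      intro i hi hin
      rw [Nat.succ_mul] at hin ⊢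
      obtain ⟨hi1, hi2, h, hh, h1, h2⟩ := ihm i hi (by omega)
      obtain ⟨h3, h4⟩ := hstep _ (ihm i hi (by omega)) (by omega) h h1 h2
      rw [← Nat.add_assoc]
      exact ⟨by omega, by omega, h ^ p, H.pow_mem hh p, h3, h4⟩
  let I := (Finset.Icc 1 (n - 2)).filter fun i => R i ∧ ¬ (p ≤ i ∧ R (i - (p - 1)))
  have hI : I.card ≤ p - 1 := by
    have hinj : Set.InjOn (fun i => i % (p - 1)) (I : Set ℕ) := by
      have key : ∀ a ∈ I, ∀ b ∈ I, a % (p - 1) = b % (p - 1) → a < b → False := by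
        intro a ha b hb hab hlt
        obtain ⟨haI, hRa, -⟩ := Finset.mem_filter.mp ha
        obtain ⟨hbI, hRb, hnb⟩ := Finset.mem_filter.mp hb
        obtain ⟨m, hm⟩ := (Nat.modEq_iff_dvd' hlt.le).mp hab
        have hm0 : m ≠ 0 := fun h => by
          rw [h, Nat.mul_zero] at hm
          omega
        obtain ⟨m', rfl⟩ : ∃ m', m = m' + 1 := ⟨m - 1, by omega⟩
        rw [Nat.mul_succ, Nat.mul_comm] at hm
        have := (Finset.mem_Icc.mp haI).1
        have := (Finset.mem_Icc.mp hbI).2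
        refine hnb ⟨by omega, ?_⟩
        rw [show b - (p - 1) = a + m' * (p - 1) by omega]
        exact hclosed m' a hRa (by omega)
      intro a ha b hb hab
      rcases lt_trichotomy a b with h | h | h
      · exact absurd (key a ha b hb hab h) id
      · exact h
      · exact absurd (key b hb a ha hab.symm h) id
    calc I.card = (I.image fun i => i % (p - 1)).card := (Finset.card_image_of_injOn hinj).symm
      _ ≤ (Finset.range (p - 1)).card := Finset.card_le_card fun a ha => by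
          obtain ⟨i, -, rfl⟩ := Finset.mem_image.mp ha
          exact Finset.mem_range.mpr (Nat.mod_lt _ (by omega))
      _ = p - 1 := Finset.card_range _
  let g : ℕ → G := fun i => if h : R i then h.2.2.choose else 1
  have hg : ∀ i, R i → g i ∈ H ∧ g i ∈ γ i ∧ g i ∉ γ (i + 1) := fun i hi => by
    simp only [g, dif_pos hi]
    exact hi.2.2.choose_spec
  refine ⟨I.image g, Finset.card_image_le.trans hI, ?_⟩
  set K := closure ((I.image g : Finset G) : Set G) with hK
  have hKH : K ≤ H := (closure_le _).mpr fun a ha => by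
    obtain ⟨i, hi, rfl⟩ := Finset.mem_image.mp (Finset.mem_coe.mp ha)
    exact (hg i (Finset.mem_filter.mp hi).2.1).1
  have hlay : ∀ i, R i → ∃ k ∈ K, k ∈ γ i ∧ k ∉ γ (i + 1) := by
    intro i
    induction i using Nat.strong_induction_on with
    | _ i ih =>
    intro hi
    by_cases hcase : p ≤ i ∧ R (i - (p - 1))
    · obtain ⟨k, hk, h1, h2⟩ := ih (i - (p - 1)) (by omega) hcase.2
      have h12 := hstep _ hcase.2 (by have := hi.2.1; omega) k h1 h2
      rw [show i - (p - 1) + (p - 1) = i by omega] at h12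
      exact ⟨k ^ p, K.pow_mem hk p, h12⟩
    · refine ⟨g i, subset_closure (Finset.mem_coe.mpr (Finset.mem_image_of_mem g ?_)), (hg i hi).2⟩
      exact Finset.mem_filter.mpr ⟨Finset.mem_Icc.mpr ⟨hi.1, hi.2.1⟩, hi, hcase⟩
  have hdown : ∀ d i, 1 ≤ i → n - 1 ≤ i + d → H ⊓ γ i ≤ K := by
    intro d
    induction d with
    | zero =>
      intro i _ hin
      rw [lcs_high hn hG (by omega : n - 1 ≤ i), inf_bot_eq]
      exact bot_le
    | succ d ihd =>
      intro i hi hin h hh
      obtain ⟨hhH, hhi⟩ := mem_inf.mp hh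
      by_cases hh' : h ∈ γ (i + 1)
      · exact ihd (i + 1) (by omega) (by omega) (mem_inf.mpr ⟨hhH, hh'⟩)
      have hin2 : i ≤ n - 2 := by
        by_contra hlt
        refine hh' ?_
        rw [lcs_high hn hG (by omega : n - 1 ≤ i)] at hhi
        rw [mem_bot.mp hhi]
        exact one_mem _
      obtain ⟨k, hkK, hk, hk'⟩ := hlay i ⟨hi, hin2, h, hhH, hhi, hh'⟩
      have heq : zpowers k ⊔ γ (i + 1) = γ i := by
        refine eq_of_le_of_card_ge
          (sup_le (zpowers_le.mpr hk) (Subgroup.lowerCentralSeries_antitone (⊤ : Subgroup G) (Nat.le_succ i))) ?_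
        have h1 := PGroup.mul_card_le_card hP (H := γ (i + 1)) (K := zpowers k ⊔ γ (i + 1))
          (right_lt_sup.mpr fun h => hk' (h (mem_zpowers k)))
        rw [card_lcs hn hG hcl hi]
        rw [card_lcs hn hG hcl (by omega : 1 ≤ i + 1), ← pow_succ'] at h1
        rwa [show n - 1 - (i + 1) + 1 = n - 1 - i by omega] at h1
      obtain ⟨a, ha, b, hb, hab⟩ := mem_sup_of_normal_right.mp (heq.ge hhi)
      obtain ⟨m, rfl⟩ := mem_zpowers_iff.mp ha
      have hbH : b ∈ H := by
        have h2 : (k ^ m)⁻¹ * h = b := by rw [← hab]; group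
        exact h2 ▸ mul_mem (inv_mem (H.zpow_mem (hKH hkK) m)) hhH
      rw [← hab]
      exact mul_mem (K.zpow_mem hkK m) (ihd (i + 1) (by omega) (by omega) (mem_inf.mpr ⟨hbH, hb⟩))
  exact le_antisymm hKH fun h hh => hdown n 1 le_rfl (by omega) (mem_inf.mpr ⟨hh, hH hh⟩)

theorem rank_small {p n : ℕ} [Fact p.Prime] [Finite G] (hn : n ≤ 2) (hG : Nat.card G = p ^ n)
    (H : Subgroup G) : ∃ T : Finset G, T.card ≤ 2 ∧ closure (T : Set G) = H := by
  classical
  have hP := IsPGroup.of_card hG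
  by_cases hbot : H = ⊥
  · exact ⟨∅, by simp, by simp [hbot]⟩
  obtain ⟨a, ha, ha1⟩ := (Subgroup.ne_bot_iff_exists_ne_one (H := H)).mp hbot |>.elim fun a h =>
    (⟨a.1, a.2, fun hh => h (Subtype.ext hh)⟩ : ∃ a, a ∈ H ∧ a ≠ 1)
  by_cases hle : H ≤ zpowers a
  · exact ⟨{a}, by simp, by
      rw [Finset.coe_singleton, ← zpowers_eq_closure]; exact le_antisymm (zpowers_le.mpr ha) hle⟩
  obtain ⟨b, hb, hba⟩ := SetLike.not_le_iff_exists.mp hle
  refine ⟨{a, b}, Finset.card_le_two, ?_⟩
  rw [Finset.coe_insert, Finset.coe_singleton, Set.insert_eq, Subgroup.closure_union, ← zpowers_eq_closure,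
    ← zpowers_eq_closure]
  refine eq_of_le_of_card_ge (sup_le (zpowers_le.mpr ha) (zpowers_le.mpr hb)) ?_
  have h1 := PGroup.mul_card_le_card hP (H := (⊥ : Subgroup G)) (K := zpowers a)
    (bot_lt_iff_ne_bot.mpr fun h => ha1 (mem_bot.mp (h ▸ mem_zpowers a)))
  rw [card_bot, mul_one] at h1
  have h2 := PGroup.mul_card_le_card hP (H := zpowers a) (K := zpowers a ⊔ zpowers b)
    (left_lt_sup.mpr fun h => hba (h (mem_zpowers b)))
  calc Nat.card H ≤ Nat.card G := Subgroup.card_le_card_group H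
    _ ≤ p ^ 2 := by rw [hG]; exact Nat.pow_le_pow_right (Fact.out : p.Prime).pos hn
    _ ≤ p * Nat.card (zpowers a) := by rw [pow_two]; exact Nat.mul_le_mul_left p h1
    _ ≤ _ := h2

/-- All subgroups are generated by at most `p` elements. -/
theorem rank_le {p n : ℕ} [Fact p.Prime] [Finite G] (hn : 3 ≤ n) (hG : Nat.card G = p ^ n)
    (hcl : γ (n - 2) ≠ ⊥) {x : G} (hx : x ^ p = 1) (hC : Nat.card (centralizer {x}) = p ^ 2)
    (H : Subgroup G) : ∃ T : Finset G, T.card ≤ p ∧ closure (T : Set G) = H := by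
  classical
  have hp2 := (Fact.out : p.Prime).two_le
  have hP := IsPGroup.of_card hG
  by_cases hle : H ≤ γ 1
  · obtain ⟨T, hT, hcT⟩ := rank_below hn hG hcl hx hC H hle
    exact ⟨T, by omega, hcT⟩
  obtain ⟨a, ha, ha'⟩ := SetLike.not_le_iff_exists.mp hle
  by_cases hle2 : H ≤ zpowers a ⊔ γ 1
  · obtain ⟨T, hT, hcT⟩ := rank_below hn hG hcl hx hC (H ⊓ γ 1) inf_le_right
    refine ⟨insert a T, (Finset.card_insert_le a T).trans (by omega), ?_⟩
    rw [Finset.coe_insert, Set.insert_eq, Subgroup.closure_union, ← zpowers_eq_closure, hcT]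
    refine le_antisymm (sup_le (zpowers_le.mpr ha) inf_le_left) fun h hh => ?_
    obtain ⟨u, hu, v, hv, huv⟩ := mem_sup_of_normal_right.mp (hle2 hh)
    obtain ⟨m, rfl⟩ := mem_zpowers_iff.mp hu
    have hvH : v ∈ H := by
      have h2 : (a ^ m)⁻¹ * h = v := by rw [← huv]; group
      exact h2 ▸ mul_mem (inv_mem (H.zpow_mem ha m)) hh
    rw [← huv]
    exact mul_mem (mem_sup_left (zpow_mem (mem_zpowers a) m)) (mem_sup_right (mem_inf.mpr ⟨hvH, hv⟩))
  obtain ⟨b, hb, hb'⟩ := SetLike.not_le_iff_exists.mp hle2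
  refine ⟨{a, b}, Finset.card_le_two.trans hp2, ?_⟩
  have htop : closure ({a, b} : Set G) = ⊤ := by
    refine PGroup.closure_eq_top_of_sup_frattini (top_le_iff.mp ?_)
    have hγ : γ 1 ≤ frattini G := by
      rw [Subgroup.top_lowerCentralSeries_one]
      exact PGroup.commutator_le_frattini hP
    refine le_trans (le_of_eq ?_) (sup_le_sup le_rfl hγ)
    rw [Set.insert_eq, Subgroup.closure_union, ← zpowers_eq_closure, ← zpowers_eq_closure]
    refine (eq_of_le_of_card_ge le_top ?_).symm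
    have hlt1 : γ 1 < zpowers a ⊔ γ 1 := right_lt_sup.mpr fun h => ha' (h (mem_zpowers a))
    have hlt2 : zpowers a ⊔ γ 1 < zpowers a ⊔ zpowers b ⊔ γ 1 := by
      refine SetLike.lt_iff_le_and_exists.mpr ⟨sup_le (le_sup_left.trans le_sup_left) le_sup_right, b, ?_, hb'⟩
      exact mem_sup_left (mem_sup_right (mem_zpowers b))
    have h1 := PGroup.mul_card_le_card hP hlt1
    have h2 := PGroup.mul_card_le_card hP hlt2
    rw [card_lcs hn hG hcl le_rfl] at h1
    rw [card_top, hG]
    calc p ^ n = p * (p * p ^ (n - 1 - 1)) := by rw [← pow_succ', ← pow_succ']; congr 1; omega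
      _ ≤ p * Nat.card ↥(zpowers a ⊔ γ 1) := Nat.mul_le_mul_left p h1
      _ ≤ _ := h2
  rw [Finset.coe_insert, Finset.coe_singleton]
  refine le_antisymm ?_ (by rw [htop]; exact le_top)
  rw [closure_le, Set.insert_subset_iff, Set.singleton_subset_iff]
  exact ⟨ha, hb⟩

end Cfsg.Agent.Pearl
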