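import Cfsg.Agent.Lib.PGroup.MaximalClass
import Cfsg.Agent.S4209

/-!
# A group of maximal class with an element `x` of order `p` such that `|C(x)| = p²`

* `mul_pow_eq_one` : `(y x)^p = 1` for `y ∈ γ 1`
* `layer_commutator` : `u ∈ γ k \ γ (k+1)` gives `⁅u,x⁆ ∉ γ (k+2)`
-/

set_option autoImplicit false
set_option linter.style.haveILetI false

namespace Cfsg.Agent.Pearl

open Subgroup
open scoped commutatorElement

universe u

variable {G : Type u} [Group G]

local notation "γ" => Subgroup.lowerCentralSeries (⊤ : Subgroup G)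

theorem class_eq {p n : ℕ} [Fact p.Prime] [Finite G] (hn : 3 ≤ n) (hG : Nat.card G = p ^ n)
    (hcl : γ (n - 2) ≠ ⊥) : Group.nilpotencyClass G = n - 1 := by
  have := (IsPGroup.of_card hG).isNilpotent
  refine le_antisymm (Subgroup.lowerCentralSeries_eq_bot_iff_nilpotencyClass_le.mp
    (PGroup.lcs_eq_bot_of_card (by omega) hG)) ?_
  by_contra h
  exact hcl (Subgroup.lowerCentralSeries_eq_bot_iff_nilpotencyClass_le.mpr (by omega))

theorem card_lcs {p n : ℕ} [Fact p.Prime] [Finite G] (hn : 3 ≤ n) (hG : Nat.card G = p ^ n)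
    (hcl : γ (n - 2) ≠ ⊥) {i : ℕ} (hi : 1 ≤ i) : Nat.card ↥(γ i) = p ^ (n - 1 - i) := by
  rcases le_or_gt i (n - 1) with h | h
  · exact PGroup.card_lcs_of_maximal hn hG (class_eq hn hG hcl) hi h
  · have h1 : γ (n - 1) = ⊥ := PGroup.lcs_eq_bot_of_card (by omega) hG
    have h2 : γ i = ⊥ :=
      le_bot_iff.mp ((Subgroup.lowerCentralSeries_antitone (⊤ : Subgroup G) h.le).trans h1.le)
    rw [h2, card_bot, show n - 1 - i = 0 by omega, pow_zero]

theorem lcs_high {p n : ℕ} [Fact p.Prime] [Finite G] (hn : 3 ≤ n) (hG : Nat.card G = p ^ n) {i : ℕ}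
    (hi : n - 1 ≤ i) : γ i = ⊥ :=
  le_bot_iff.mp ((Subgroup.lowerCentralSeries_antitone (⊤ : Subgroup G) hi).trans
    (PGroup.lcs_eq_bot_of_card (by omega) hG).le)

/-- `g ↦ x⁻¹ (g x g⁻¹)` on the cosets of the centralizer of `x`. -/
def cmap (x : G) : G ⧸ centralizer ({x} : Set G) → γ 1 :=
  Quotient.lift (fun g => (⟨⁅x⁻¹, g⁆, by
      rw [Subgroup.top_lowerCentralSeries_one]
      exact commutator_mem_commutator (mem_top _) (mem_top _)⟩ : γ 1)) fun a b hab => by
    have h : a⁻¹ * b * x = x * (a⁻¹ * b) :=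
      mem_centralizer_singleton_iff.mp (QuotientGroup.leftRel_apply.mp hab)
    refine Subtype.ext ?_
    show ⁅x⁻¹, a⁆ = ⁅x⁻¹, b⁆
    calc ⁅x⁻¹, a⁆ = x⁻¹ * a * (x * (a⁻¹ * b)) * b⁻¹ := by simp only [commutatorElement_def]; group
      _ = x⁻¹ * a * (a⁻¹ * b * x) * b⁻¹ := by rw [h]
      _ = ⁅x⁻¹, b⁆ := by simp only [commutatorElement_def]; group

theorem cmap_injective (x : G) : Function.Injective (cmap x) := by
  intro a b
  refine Quotient.inductionOn₂ a b fun a b h => Quotient.sound ?_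
  have h' : ⁅x⁻¹, a⁆ = ⁅x⁻¹, b⁆ := congrArg Subtype.val h
  refine QuotientGroup.leftRel_apply.mpr (mem_centralizer_singleton_iff.mpr ?_)
  calc a⁻¹ * b * x = a⁻¹ * x * (⁅x⁻¹, b⁆) * b := by simp only [commutatorElement_def]; group
    _ = a⁻¹ * x * (⁅x⁻¹, a⁆) * b := by rw [h']
    _ = x * (a⁻¹ * b) := by simp only [commutatorElement_def]; group

theorem exists_commutator_eq {p n : ℕ} [Fact p.Prime] [Finite G] (hn : 3 ≤ n) (hG : Nat.card G = p ^ n)
    (hcl : γ (n - 2) ≠ ⊥) {x : G} (hC : Nat.card (centralizer {x}) = p ^ 2) {y : G} (hy : y ∈ γ 1) :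
    ∃ g : G, g * x * g⁻¹ = x * y := by
  have hp := (Fact.out : p.Prime)
  have hidx : (centralizer {x}).index = Nat.card (γ 1) := by
    have h := (centralizer ({x} : Set G)).card_mul_index
    rw [hC, hG, show p ^ n = p ^ 2 * p ^ (n - 2) by rw [← pow_add]; congr 1; omega] at h
    rw [Nat.eq_of_mul_eq_mul_left (Nat.pow_pos hp.pos) h, card_lcs hn hG hcl le_rfl]
    congr 1
  have hb : Function.Bijective (cmap x) :=
    (cmap_injective x).bijective_of_nat_card_le (by rw [← hidx, Subgroup.index_eq_card])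
  obtain ⟨q, hq⟩ := hb.2 ⟨y, hy⟩
  obtain ⟨g, rfl⟩ := QuotientGroup.mk_surjective q
  refine ⟨g, ?_⟩
  have h : ⁅x⁻¹, g⁆ = y := congrArg Subtype.val hq
  rw [← h]
  simp only [commutatorElement_def]
  group

theorem not_mem_commutator {p n : ℕ} [Fact p.Prime] [Finite G] (hn : 3 ≤ n) (hG : Nat.card G = p ^ n)
    (hcl : γ (n - 2) ≠ ⊥) {x : G} (hC : Nat.card (centralizer {x}) = p ^ 2) : x ∉ γ 1 := fun hx => by
  obtain ⟨g, hg⟩ := exists_commutator_eq hn hG hcl hC (inv_mem hx)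
  rw [mul_inv_cancel] at hg
  have hx1 : x = 1 := by
    have := congrArg (fun t => g⁻¹ * t * g) hg
    simpa [mul_assoc] using this
  have hCt : centralizer ({x} : Set G) = ⊤ :=
    top_le_iff.mp fun a _ => mem_centralizer_singleton_iff.mpr (by rw [hx1, mul_one, one_mul])
  rw [hCt, card_top, hG] at hC
  have := Nat.pow_right_injective (Fact.out : p.Prime).two_le hC
  omega

theorem mul_pow_eq_one {p n : ℕ} [Fact p.Prime] [Finite G] (hn : 3 ≤ n) (hG : Nat.card G = p ^ n)
    (hcl : γ (n - 2) ≠ ⊥) {x : G} (hx : x ^ p = 1) (hC : Nat.card (centralizer {x}) = p ^ 2) {y : G}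
    (hy : y ∈ γ 1) : (y * x) ^ p = 1 := by
  have hn1 : (γ 1).Normal := inferInstance
  obtain ⟨g, hg⟩ := exists_commutator_eq hn hG hcl hC (hn1.conj_mem y hy x⁻¹)
  rw [inv_inv, show x * (x⁻¹ * y * x) = y * x by group] at hg
  rw [← hg, conj_pow, hx, mul_one, mul_inv_cancel]

/-- Commutation with `x` moves each layer exactly one step. -/
theorem layer_commutator {p n : ℕ} [Fact p.Prime] [Finite G] (hn : 3 ≤ n) (hG : Nat.card G = p ^ n)
    (hcl : γ (n - 2) ≠ ⊥) {x : G} (hC : Nat.card (centralizer {x}) = p ^ 2) {k : ℕ} (hk : 1 ≤ k)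
    (hkn : k + 1 ≤ n - 2) {u : G} (hu : u ∈ γ k) (hu' : u ∉ γ (k + 1)) :
    ⁅u, x⁆ ∉ γ (k + 2) := by
  have hp := (Fact.out : p.Prime)
  have hP := IsPGroup.of_card hG
  intro hcon
  let π := QuotientGroup.mk' (γ (k + 2))
  set D := (centralizer ({π x} : Set (G ⧸ γ (k + 2)))).comap π with hD
  have hmem : ∀ g, g ∈ D ↔ ⁅g, x⁆ ∈ γ (k + 2) := fun g => by
    rw [hD, mem_comap, mem_centralizer_singleton_iff, ← commutatorElement_eq_one_iff_mul_comm,
      ← map_commutatorElement]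
    exact QuotientGroup.eq_one_iff _
  have hCD : centralizer ({x} : Set G) ≤ D := fun g hg => (hmem g).mpr (by
    rw [commutatorElement_eq_one_iff_mul_comm.mpr (mem_centralizer_singleton_iff.mp hg)]
    exact one_mem _)
  -- upper bound
  have hup : Nat.card D ≤ p ^ 2 * Nat.card (γ (k + 2)) := by
    rw [← hC]
    have h := relIndex_mul_relIndex ⊥ (centralizer ({x} : Set G)) D bot_le hCD
    rw [relIndex_bot_left, relIndex_bot_left] at h
    rw [← h]
    refine Nat.mul_le_mul_left _ ?_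
    show (centralizer ({x} : Set G)).relIndex D ≤ _
    rw [Subgroup.relIndex, Subgroup.index_eq_card]
    let f : D ⧸ (centralizer ({x} : Set G)).subgroupOf D → γ (k + 2) :=
      Quotient.lift (fun g => (⟨⁅x⁻¹, (g : G)⁆, by
        have h1 := (inferInstance : (γ (k + 2)).Normal).conj_mem _ ((hmem g).mp g.2) x⁻¹
        rw [show ⁅x⁻¹, (g : G)⁆ = x⁻¹ * ⁅(g : G), x⁆ * x⁻¹⁻¹ by simp only [commutatorElement_def]; group]
        exact h1⟩ : γ (k + 2))) fun a b hab => by
          have h0 : a⁻¹ * b ∈ (centralizer ({x} : Set G)).subgroupOf D := QuotientGroup.leftRel_apply.mp hab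
          have h1 : (QuotientGroup.mk (a : G) : G ⧸ centralizer ({x} : Set G)) = QuotientGroup.mk (b : G) :=
            QuotientGroup.eq.mpr h0
          have h2 : (⁅x⁻¹, (a : G)⁆ : G) = ⁅x⁻¹, (b : G)⁆ :=
            congrArg Subtype.val (congrArg (cmap x) h1)
          exact Subtype.ext h2
    refine Nat.card_le_card_of_injective f ?_
    intro a b
    refine Quotient.inductionOn₂ a b fun a b h => Quotient.sound (QuotientGroup.leftRel_apply.mpr ?_)
    have h' : (⁅x⁻¹, (a : G)⁆ : G) = ⁅x⁻¹, (b : G)⁆ := congrArg Subtype.val h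
    have h1 : (QuotientGroup.mk (a : G) : G ⧸ centralizer ({x} : Set G)) = QuotientGroup.mk (b : G) :=
      cmap_injective x (Subtype.ext h')
    exact mem_subgroupOf.mpr (QuotientGroup.eq.mp h1)
  -- `D` contains `u`, `x` and `γ (k+1)`
  have hxD : x ∈ D := hCD (mem_centralizer_singleton_iff.mpr rfl)
  have hsD : γ (k + 1) ≤ D := fun g hg => (hmem g).mpr (by
    rw [Subgroup.lowerCentralSeries_succ]
    exact commutator_mem_commutator hg (mem_top x))
  have huD : u ∈ D := (hmem u).mpr hcon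
  have hlt1 : γ (k + 1) < γ (k + 1) ⊔ zpowers u := left_lt_sup.mpr fun h => hu' (h (mem_zpowers u))
  have hle1 : γ (k + 1) ⊔ zpowers u ≤ γ k :=
    sup_le (Subgroup.lowerCentralSeries_antitone (⊤ : Subgroup G) (Nat.le_succ k)) (zpowers_le.mpr hu)
  have hlt2 : γ (k + 1) ⊔ zpowers u < γ (k + 1) ⊔ zpowers u ⊔ zpowers x := by
    refine left_lt_sup.mpr fun h => not_mem_commutator hn hG hcl hC ?_
    exact Subgroup.lowerCentralSeries_antitone (⊤ : Subgroup G) hk (hle1 (h (mem_zpowers x)))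
  have h1 := PGroup.mul_card_le_card hP hlt1
  have h2 := PGroup.mul_card_le_card hP hlt2
  have h3 : Nat.card ↥(γ (k + 1) ⊔ zpowers u ⊔ zpowers x) ≤ Nat.card D :=
    Subgroup.card_le_of_le (sup_le (sup_le hsD (zpowers_le.mpr huD)) (zpowers_le.mpr hxD))
  have hlow : p * (p * Nat.card (γ (k + 1))) ≤ p ^ 2 * Nat.card (γ (k + 2)) :=
    ((Nat.mul_le_mul_left p h1).trans h2).trans (h3.trans hup)
  rw [card_lcs hn hG hcl (by omega), card_lcs hn hG hcl (by omega), ← pow_succ', ← pow_succ', ← pow_add] at hlow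
  have := (Nat.pow_le_pow_iff_right hp.one_lt).mp hlow
  omega

end Cfsg.Agent.Pearl
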