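import Cfsg.Agent.Lib.PGroup.MaximalClass
import Mathlib.GroupTheory.SemidirectProduct

/-!
# The model group `C_p ≀ C_p`

* `Wr p`, its elements `X`, `Y` with `(Y X)^p ≠ 1`, `γ p = ⊥`
-/

set_option autoImplicit false
set_option linter.style.haveILetI false

namespace Cfsg.Agent.Pearl.Model

open Subgroup
open scoped commutatorElement

/-- The base group. -/
abbrev A (p : ℕ) : Type := ZMod p → Multiplicative (ZMod p)

/-- Translation of the coordinates. -/
def shift (p : ℕ) : Multiplicative (ZMod p) →* MulAut (A p) where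
  toFun a :=
    { toFun := fun f i => f (i - a.toAdd)
      invFun := fun f i => f (i + a.toAdd)
      left_inv := fun f => funext fun i => by simp
      right_inv := fun f => funext fun i => by simp
      map_mul' := fun _ _ => rfl }
  map_one' := MulEquiv.ext fun f => funext fun i => by simp
  map_mul' a b := MulEquiv.ext fun f => funext fun i => by
    show f (i - (a * b).toAdd) = f (i - a.toAdd - b.toAdd)
    rw [toAdd_mul, sub_sub]

/-- The model. -/
abbrev Wr (p : ℕ) : Type := A p ⋊[shift p] Multiplicative (ZMod p)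

variable (p : ℕ) [Fact p.Prime]

instance : Finite (Wr p) := Finite.of_equiv _ SemidirectProduct.equivProd.symm

theorem card_Wr : Nat.card (Wr p) = p ^ (p + 1) := by
  rw [Nat.card_congr SemidirectProduct.equivProd, Nat.card_prod, Nat.card_pi,
    Finset.prod_const, Finset.card_univ, ZMod.card, Nat.card_congr (Multiplicative.toAdd (α := ZMod p)),
    Nat.card_zmod, pow_succ]

theorem lcs_eq_bot : (⊤ : Subgroup (Wr p)).lowerCentralSeries p = ⊥ := by
  have h := PGroup.lcs_eq_bot_of_card (G := Wr p) (p := p) (r := p + 1)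
    (Nat.succ_le_succ (Fact.out : p.Prime).one_le) (card_Wr p)
  simpa using h

/-- The generator of the acting group. -/
def X : Wr p := SemidirectProduct.inr (Multiplicative.ofAdd 1)

/-- The generator of the base. -/
def Y : Wr p := SemidirectProduct.inl (Pi.mulSingle 0 (Multiplicative.ofAdd 1))

theorem zmod_pow (a : Multiplicative (ZMod p)) : a ^ p = 1 :=
  Multiplicative.toAdd.injective (by simp [toAdd_pow, nsmul_eq_mul])

theorem X_pow : X p ^ p = 1 := by rw [X, ← map_pow, zmod_pow, map_one]

theorem inl_pow (f : A p) : (SemidirectProduct.inl f : Wr p) ^ p = 1 := by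
  rw [← map_pow, show f ^ p = 1 from funext fun i => zmod_pow p (f i), map_one]

theorem Y_pow : Y p ^ p = 1 := inl_pow p _

theorem mem_base {v : Wr p} (hv : v ∈ (⊤ : Subgroup (Wr p)).lowerCentralSeries 1) :
    ∃ f : A p, SemidirectProduct.inl f = v := by
  rw [Subgroup.top_lowerCentralSeries_one] at hv
  have h : commutator (Wr p) ≤ (SemidirectProduct.rightHom (φ := shift p)).ker := by
    rw [commutator_def, Subgroup.commutator_le]
    intro a _ b _
    rw [MonoidHom.mem_ker, map_commutatorElement, commutatorElement_eq_one_iff_mul_comm]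
    exact mul_comm _ _
  rw [← SemidirectProduct.range_inl_eq_ker_rightHom] at h
  exact h hv

theorem base_pow {v : Wr p} (hv : v ∈ (⊤ : Subgroup (Wr p)).lowerCentralSeries 1) : v ^ p = 1 := by
  obtain ⟨f, rfl⟩ := mem_base p hv
  exact inl_pow p f

theorem base_comm {v : Wr p} (hv : v ∈ (⊤ : Subgroup (Wr p)).lowerCentralSeries 1) : v * Y p = Y p * v := by
  obtain ⟨f, rfl⟩ := mem_base p hv
  rw [Y, ← map_mul, ← map_mul, mul_comm]

theorem YX_pow_left (m : ℕ) :
    ((Y p * X p) ^ m).left =
      ∏ l ∈ Finset.range m, (Pi.mulSingle ((l : ℕ) : ZMod p) (Multiplicative.ofAdd 1) : A p) ∧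
    ((Y p * X p) ^ m).right = Multiplicative.ofAdd ((m : ℕ) : ZMod p) := by
  induction m with
  | zero => simp
  | succ m ih =>
    refine ⟨?_, ?_⟩
    · rw [pow_succ, SemidirectProduct.mul_left, ih.1, ih.2, Finset.prod_range_succ]
      congr 1
      funext i
      show (Y p * X p).left (i - (m : ZMod p)) = _
      have hl : (Y p * X p).left = (Pi.mulSingle (0 : ZMod p) (Multiplicative.ofAdd (1 : ZMod p)) : A p) := by simp [X, Y]
      rw [hl]
      by_cases h : i = (m : ZMod p)
      · subst h; simp
      · rw [Pi.mulSingle_eq_of_ne h, Pi.mulSingle_eq_of_ne (sub_ne_zero.mpr h)]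
    · rw [pow_succ, SemidirectProduct.mul_right, ih.2]
      simp [X, Y, ← ofAdd_add]

theorem YX_pow_ne_one : (Y p * X p) ^ p ≠ 1 := fun h => by
  have h1 := (YX_pow_left p p).1
  rw [h, SemidirectProduct.one_left] at h1
  have h2 := congrFun h1 0
  rw [Finset.prod_apply, Finset.prod_eq_single 0] at h2
  · have h3 : ((1 : Multiplicative (ZMod p))).toAdd = (Multiplicative.ofAdd (1 : ZMod p)).toAdd :=
      congrArg Multiplicative.toAdd (by simpa using h2)
    simp at h3
  · intro l hl hl0
    refine Pi.mulSingle_eq_of_ne ?_ _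
    intro h0
    have h3 := (ZMod.natCast_eq_zero_iff l p).mp h0.symm
    exact absurd (Nat.le_of_dvd (Nat.pos_of_ne_zero hl0) h3) (not_le.mpr (Finset.mem_range.mp hl))
  · intro h0
    exact absurd (Finset.mem_range.mpr (Fact.out : p.Prime).pos) h0

end Cfsg.Agent.Pearl.Model
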