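import Cfsg.Agent.Lib.Pearl.Three

/-!
# `C₃ ≀ C₃`

* `nonempty_equiv_model` : elementary abelian `D` of index `3`, `x ∉ D` of order `3`, class `3`, order `81`
* `exists_sylow_equiv` : the model is a Sylow `3`-subgroup of `Perm (Fin 9)`
-/

set_option autoImplicit false
set_option linter.style.haveILetI false

namespace Cfsg.Agent.Pearl.Three

open Subgroup
open scoped commutatorElement

universe u

theorem m3_cases : ∀ a : Multiplicative (ZMod 3),
    a = 1 ∨ a = Multiplicative.ofAdd 1 ∨ a = Multiplicative.ofAdd 1 * Multiplicative.ofAdd 1 := by decide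

theorem z3_ne : (1 : ZMod 3) ≠ 0 ∧ (2 : ZMod 3) ≠ 0 := by decide

/-- The element of order dividing `3` as a homomorphism. -/
def powHom {A : Type u} [CommGroup A] (a : A) (ha : a ^ 3 = 1) : Multiplicative (ZMod 3) →* A :=
  MonoidHom.mk' (fun m => a ^ m.toAdd.val) fun m k => by
    rw [← pow_add, toAdd_mul, ZMod.val_add]
    exact (pow_eq_pow_mod _ ha).symm

theorem powHom_apply {A : Type u} [CommGroup A] (a : A) (ha : a ^ 3 = 1) (m : Multiplicative (ZMod 3)) :
    powHom a ha m = a ^ m.toAdd.val := rfl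

theorem Setting.nonempty_equiv_model {G : Type u} [Group G] [Finite G] [Fact (Nat.Prime 3)] {n : ℕ} {x : G}
    (h : Setting G n x) (h4 : n = 4) (D : Subgroup G) (hi : D.index = 3)
    (hD1 : (⊤ : Subgroup G).lowerCentralSeries 1 ≤ D) (hxD : x ∉ D) (hab : ∀ a ∈ D, ∀ b ∈ D, a * b = b * a)
    (hexp : ∀ a ∈ D, a ^ 3 = 1) : Nonempty (G ≃* Model.Wr 3) := by
  classical
  haveI hDn : D.Normal := PGroup.normal_of_index_eq (IsPGroup.of_card h.hG) hi
  letI : CommGroup D :=
    { (inferInstance : Group D) with mul_comm := fun a b => Subtype.ext (hab a a.2 b b.2) }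
  have hle : (⊤ : Subgroup G).lowerCentralSeries 1 < D := by
    refine lt_of_le_of_ne hD1 fun he => ?_
    have h1 := D.card_mul_index
    rw [← he, card_lcs h.n3 h.hG h.hcl le_rfl, he, hi, h.hG, h4] at h1
    norm_num at h1
  obtain ⟨y, hy, hy'⟩ := SetLike.exists_of_lt hle
  let θ : ZMod 3 → D := fun i => ⟨x ^ i.val * y * (x ^ i.val)⁻¹, hDn.conj_mem y hy _⟩
  have hθ : ∀ i, θ i ^ 3 = 1 := fun i => Subtype.ext (hexp _ (θ i).2)
  let φA : Model.A 3 →* D := MonoidHom.mk'
    (fun f => powHom (θ 0) (hθ 0) (f 0) * powHom (θ 1) (hθ 1) (f 1) * powHom (θ 2) (hθ 2) (f 2)) fun f g => by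
      show powHom (θ 0) (hθ 0) (f 0 * g 0) * powHom (θ 1) (hθ 1) (f 1 * g 1) * powHom (θ 2) (hθ 2) (f 2 * g 2) = _
      rw [map_mul, map_mul, map_mul, mul_mul_mul_comm (powHom (θ 0) (hθ 0) (f 0)), mul_mul_mul_comm]
  have hx3 : x * x * x = 1 := by rw [← h.hx, pow_three, mul_assoc]
  let cx : D →* G := (MulAut.conj x).toMonoidHom.comp D.subtype
  have hc0 : cx (θ 0) = (θ 1 : G) := by
    show x * ((θ 0 : D) : G) * x⁻¹ = ((θ 1 : D) : G)
    simp [θ, ZMod.val_one]
  have hc1 : cx (θ 1) = (θ 2 : G) := by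
    show x * ((θ 1 : D) : G) * x⁻¹ = ((θ 2 : D) : G)
    have h2 : (2 : ZMod 3).val = 2 := rfl
    simp only [θ, ZMod.val_one, h2]
    group
  have hc2 : cx (θ 2) = (θ 0 : G) := by
    show x * ((θ 2 : D) : G) * x⁻¹ = ((θ 0 : D) : G)
    have h2 : (2 : ZMod 3).val = 2 := rfl
    simp only [θ, ZMod.val_zero, h2]
    calc x * (x ^ 2 * y * (x ^ 2)⁻¹) * x⁻¹ = (x * x * x) * y * (x * x * x)⁻¹ := by simp [pow_two, mul_assoc]
      _ = _ := by rw [hx3]; simp
  let conjx : Multiplicative (ZMod 3) →* MulAut G := MulAut.conj.comp (MonoidHom.mk' (fun m => x ^ m.toAdd.val)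
    fun m k => by
      rw [← pow_add, toAdd_mul, ZMod.val_add]
      exact (pow_eq_pow_mod _ h.hx).symm)
  have hone : ∀ f, (φA (Model.shift 3 (Multiplicative.ofAdd 1) f) : G) = cx (φA f) := fun f => by
    have e0 : Model.shift 3 (Multiplicative.ofAdd 1) f 0 = f 2 := by show f (0 - 1) = f 2; rfl
    have e1 : Model.shift 3 (Multiplicative.ofAdd 1) f 1 = f 0 := by show f (1 - 1) = f 0; rfl
    have e2 : Model.shift 3 (Multiplicative.ofAdd 1) f 2 = f 1 := by show f (2 - 1) = f 1; rfl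
    have hL : φA (Model.shift 3 (Multiplicative.ofAdd 1) f) =
        θ 1 ^ (f 0).toAdd.val * θ 2 ^ (f 1).toAdd.val * θ 0 ^ (f 2).toAdd.val := by
      show powHom (θ 0) (hθ 0) _ * powHom (θ 1) (hθ 1) _ * powHom (θ 2) (hθ 2) _ = _
      rw [e0, e1, e2, powHom_apply, powHom_apply, powHom_apply,
        mul_assoc (θ 0 ^ _), mul_comm (θ 0 ^ _)]
    have hR : cx (φA f) = cx (θ 0) ^ (f 0).toAdd.val * cx (θ 1) ^ (f 1).toAdd.val * cx (θ 2) ^ (f 2).toAdd.val := by
      show cx (powHom (θ 0) (hθ 0) _ * powHom (θ 1) (hθ 1) _ * powHom (θ 2) (hθ 2) _) = _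
      rw [powHom_apply, powHom_apply, powHom_apply, map_mul, map_mul, map_pow, map_pow, map_pow]
    rw [hR, hc0, hc1, hc2, hL]
    simp
  have hlift : ∀ a, (D.subtype.comp φA).comp (Model.shift 3 a).toMonoidHom =
      (conjx a).toMonoidHom.comp (D.subtype.comp φA) := by
    have hadd : ∀ a b, (∀ f, (φA (Model.shift 3 a f) : G) = conjx a (φA f)) →
        (∀ f, (φA (Model.shift 3 b f) : G) = conjx b (φA f)) →
        ∀ f, (φA (Model.shift 3 (a * b) f) : G) = conjx (a * b) (φA f) := fun a b ha hb f => by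
      rw [map_mul, map_mul, MulAut.mul_apply, MulAut.mul_apply, ha, hb]
    have h1 : ∀ f, (φA (Model.shift 3 (Multiplicative.ofAdd 1) f) : G) = conjx (Multiplicative.ofAdd 1) (φA f) :=
      fun f => by
        rw [hone]
        show x * ((φA f : D) : G) * x⁻¹ = x ^ (1 : ZMod 3).val * ((φA f : D) : G) * (x ^ (1 : ZMod 3).val)⁻¹
        rw [ZMod.val_one, pow_one]
    intro a
    refine MonoidHom.ext fun f => ?_
    show (φA (Model.shift 3 a f) : G) = conjx a (φA f)
    rcases m3_cases a with rfl | rfl | rfl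
    · rw [map_one, map_one]; rfl
    · exact h1 f
    · exact hadd _ _ h1 h1 f
  let xh : Multiplicative (ZMod 3) →* G := MonoidHom.mk' (fun m => x ^ m.toAdd.val) fun m k => by
    rw [← pow_add, toAdd_mul, ZMod.val_add]
    exact (pow_eq_pow_mod _ h.hx).symm
  let Φ : Model.Wr 3 →* G := SemidirectProduct.lift (D.subtype.comp φA) xh hlift
  have hxR : x ∈ Φ.range := ⟨SemidirectProduct.inr (Multiplicative.ofAdd 1), by
    rw [SemidirectProduct.lift_inr]
    show x ^ (1 : ZMod 3).val = x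
    rw [ZMod.val_one, pow_one]⟩
  have hyR : y ∈ Φ.range := ⟨SemidirectProduct.inl (Pi.mulSingle (0 : ZMod 3) (Multiplicative.ofAdd (1 : ZMod 3))), by
    rw [SemidirectProduct.lift_inl]
    show ((powHom (θ 0) (hθ 0) _ * powHom (θ 1) (hθ 1) _ * powHom (θ 2) (hθ 2) _ : D) : G) = y
    rw [Pi.mulSingle_eq_same, Pi.mulSingle_eq_of_ne z3_ne.1, Pi.mulSingle_eq_of_ne z3_ne.2]
    simp [powHom_apply, θ, ZMod.val_one]⟩
  have hsurj : Function.Surjective Φ := MonoidHom.range_eq_top.mp (top_le_iff.mp (by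
    rw [← h.closure_pair hD1 hi hxD hy hy', closure_le, Set.insert_subset_iff, Set.singleton_subset_iff]
    exact ⟨hxR, hyR⟩))
  exact ⟨(MulEquiv.ofBijective Φ (hsurj.bijective_of_nat_card_le
    (by rw [Model.card_Wr, h.hG, h4]))).symm⟩

/-- The action of the model on nine points. -/
def act : Model.Wr 3 →* Equiv.Perm (ZMod 3 × ZMod 3) :=
  SemidirectProduct.lift
    (MonoidHom.mk' (fun f =>
      ({ toFun := fun q => (q.1, q.2 + (f q.1).toAdd)
         invFun := fun q => (q.1, q.2 - (f q.1).toAdd)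
         left_inv := fun q => by simp
         right_inv := fun q => by simp } : Equiv.Perm (ZMod 3 × ZMod 3)))
      fun f g => Equiv.ext fun q => by
        show (q.1, q.2 + (f q.1 * g q.1).toAdd) = (q.1, q.2 + (g q.1).toAdd + (f q.1).toAdd)
        rw [toAdd_mul, add_assoc, add_comm (f q.1).toAdd])
    (MonoidHom.mk' (fun m =>
      ({ toFun := fun q => (q.1 + m.toAdd, q.2)
         invFun := fun q => (q.1 - m.toAdd, q.2)
         left_inv := fun q => by simp
         right_inv := fun q => by simp } : Equiv.Perm (ZMod 3 × ZMod 3)))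
      fun m k => Equiv.ext fun q => by
        show (q.1 + (m * k).toAdd, q.2) = (q.1 + k.toAdd + m.toAdd, q.2)
        rw [toAdd_mul, add_assoc, add_comm m.toAdd])
    fun m => MonoidHom.ext fun f => Equiv.ext fun q => by
      show (q.1, q.2 + (f (q.1 - m.toAdd)).toAdd) =
        (q.1 - m.toAdd + m.toAdd, q.2 + (f (q.1 - m.toAdd)).toAdd)
      rw [sub_add_cancel]

theorem act_injective : Function.Injective act := by
  rw [injective_iff_map_eq_one]
  intro w hw
  have happ : ∀ q : ZMod 3 × ZMod 3,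
      (q.1 + w.right.toAdd, q.2 + (w.left (q.1 + w.right.toAdd)).toAdd) = q := fun q =>
    congrArg (fun e : Equiv.Perm (ZMod 3 × ZMod 3) => e q) hw
  have h1 : w.right.toAdd = 0 := by
    have h := congrArg Prod.fst (happ (0, 0))
    simpa using h
  refine SemidirectProduct.ext (funext fun i => ?_) (Multiplicative.toAdd.injective h1)
  have h := congrArg Prod.snd (happ (i, 0))
  simp only [h1, add_zero, zero_add] at h
  exact Multiplicative.toAdd.injective h

theorem exists_sylow_equiv [Fact (Nat.Prime 3)] :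
    ∃ W : Sylow 3 (Equiv.Perm (Fin 9)), Nonempty (Model.Wr 3 ≃* (W : Subgroup (Equiv.Perm (Fin 9)))) := by
  obtain ⟨e⟩ := Fintype.card_eq.mp (show Fintype.card (ZMod 3 × ZMod 3) = Fintype.card (Fin 9) by simp)
  let ψ : Model.Wr 3 →* Equiv.Perm (Fin 9) := e.permCongrHom.toMonoidHom.comp act
  have hψ : Function.Injective ψ := e.permCongrHom.injective.comp act_injective
  have hcard : Nat.card ψ.range = 3 ^ 4 := by
    rw [← Nat.card_congr (MonoidHom.ofInjective hψ).toEquiv, Model.card_Wr]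
  obtain ⟨W, hW⟩ := (IsPGroup.of_card hcard).exists_le_sylow
  have heq : (W : Subgroup (Equiv.Perm (Fin 9))) = ψ.range := by
    refine (eq_of_le_of_card_ge hW ?_).symm
    obtain ⟨k, hk⟩ := IsPGroup.iff_card.mp W.2
    rw [hcard, hk]
    refine Nat.pow_le_pow_right (by norm_num) ?_
    by_contra hlt
    have hdvd := (Subgroup.card_subgroup_dvd_card (W : Subgroup (Equiv.Perm (Fin 9))))
    rw [hk, Nat.card_perm, Nat.card_fin] at hdvd
    exact absurd ((Nat.pow_dvd_pow 3 (by omega : 5 ≤ k)).trans hdvd) (by decide)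
  exact ⟨W, ⟨(MonoidHom.ofInjective hψ).trans (MulEquiv.subgroupCongr heq.symm)⟩⟩

end Cfsg.Agent.Pearl.Three
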